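import Cfsg.Agent.Lib.Local.RootParabolic.Radical

/-!
The Levi subgroup of a root has no normal p-subgroup inside the group, and the centre of the
unipotent group of a root is its root group.
-/

set_option autoImplicit false
set_option linter.unusedSectionVars false
set_option linter.unusedVariables false
set_option linter.unusedSimpArgs false

namespace Cfsg.Agent.RootParabolic

open Cfsg Cfsg.Agent.Lead.QP Cfsg.Agent.EquivQuad

variable {p : ℕ} [Fact p.Prime] {M : Type} [AddCommGroup M] [Module (ZMod p) M] [Module.Finite (ZMod p) M]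

local notation "k" => ZMod p
local notation "End'" => Module.End k M
local notation "GL'" => LinearMap.GeneralLinearGroup k M

/-- A p-group fixes a non-zero vector in every non-zero invariant submodule. -/
theorem exists_fixed_vector {Z : Subgroup GL'} (hZ : IsPGroup p Z) {V : Submodule k M} (hV : Stable Z V)
    (hne : V ≠ ⊥) : ∃ v ∈ V, v ≠ 0 ∧ ∀ z ∈ Z, (z : End') v = v := by
  haveI : Finite M := Module.finite_of_finite k
  letI : MulAction ↥Z ↥V :=
    { smul := fun z v => ⟨((z : GL') : End') v.1, hV _ z.2 _ v.2⟩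
      one_smul := fun v => Subtype.ext rfl
      mul_smul := fun z z' v => Subtype.ext rfl }
  have hdvd : p ∣ Nat.card V := by
    rw [Module.natCard_eq_pow_finrank (K := k) (V := V), Nat.card_zmod]
    exact dvd_pow_self p (fun h => hne (Submodule.finrank_eq_zero.1 h))
  have h0 : (0 : V) ∈ MulAction.fixedPoints ↥Z ↥V := fun z => Subtype.ext (map_zero ((z : GL') : End'))
  obtain ⟨v, hv, hv0⟩ := hZ.exists_fixed_point_of_prime_dvd_card_of_fixed_point V hdvd h0
  exact ⟨v, v.2, fun h => hv0 (Subtype.ext h.symm), fun z hz => congrArg Subtype.val (hv ⟨z, hz⟩)⟩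

/-- A p-group does not move a non-zero invariant submodule onto itself. -/
theorem moves_lt {Z : Subgroup GL'} (hZ : IsPGroup p Z) {V : Submodule k M} (hV : Stable Z V) (hne : V ≠ ⊥) :
    ¬ V ≤ Submodule.span k {m | ∃ z ∈ Z, ∃ v ∈ V, m = (z : End') v - v} := by
  haveI : Finite M := Module.finite_of_finite k
  haveI : Finite (V →ₗ[k] k) := Module.finite_of_finite k
  letI : MulAction ↥Z (V →ₗ[k] k) :=
    { smul := fun z φ =>
        { toFun := fun v => φ ⟨(((z : GL')⁻¹ : GL') : End') v.1, hV _ (inv_mem z.2) _ v.2⟩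
          map_add' := fun v w => by
            rw [← map_add φ]
            exact congrArg φ (Subtype.ext (map_add (((z : GL')⁻¹ : GL') : End') v.1 w.1))
          map_smul' := fun r v => by
            rw [RingHom.id_apply, ← map_smul φ]
            exact congrArg φ (Subtype.ext (map_smul (((z : GL')⁻¹ : GL') : End') r v.1)) }
      one_smul := fun φ => LinearMap.ext fun v => congrArg φ (Subtype.ext (by simp))
      mul_smul := fun z z' φ => LinearMap.ext fun v => congrArg φ (Subtype.ext (by simp [mul_inv_rev])) }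
  have hdvd : p ∣ Nat.card (V →ₗ[k] k) := by
    rw [Module.natCard_eq_pow_finrank (K := k) (V := V →ₗ[k] k), Nat.card_zmod, Module.finrank_linearMap,
      Module.finrank_self, mul_one]
    exact dvd_pow_self p (fun h => hne (Submodule.finrank_eq_zero.1 h))
  have h0 : (0 : V →ₗ[k] k) ∈ MulAction.fixedPoints ↥Z (V →ₗ[k] k) := fun z => LinearMap.ext fun v => rfl
  obtain ⟨φ, hφ, hφ0⟩ := hZ.exists_fixed_point_of_prime_dvd_card_of_fixed_point _ hdvd h0
  intro hle
  refine hφ0 (LinearMap.ext fun v => ?_)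
  have hsub : Submodule.span k {m | ∃ z ∈ Z, ∃ v ∈ V, m = (z : End') v - v} ≤ (LinearMap.ker φ).map V.subtype := by
    refine Submodule.span_le.2 ?_
    rintro _ ⟨z, hz, u, hu, rfl⟩
    refine ⟨⟨(z : End') u - u, sub_mem (hV z hz u hu) hu⟩, ?_, rfl⟩
    have h := LinearMap.congr_fun (hφ ⟨z⁻¹, inv_mem hz⟩) ⟨u, hu⟩
    change φ ⟨(((z⁻¹)⁻¹ : GL') : End') u, _⟩ = φ ⟨u, hu⟩ at h
    change φ ⟨(z : End') u - u, _⟩ = 0
    have e : (⟨(z : End') u - u, sub_mem (hV z hz u hu) hu⟩ : V) =
        (⟨(((z⁻¹)⁻¹ : GL') : End') u, by rw [inv_inv]; exact hV z hz u hu⟩ : V) - ⟨u, hu⟩ :=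
      Subtype.ext (by simp)
    rw [e, map_sub, h, sub_self]
  obtain ⟨w, hw, hwv⟩ := hsub (hle v.2)
  obtain rfl : w = v := Subtype.ext hwv
  exact (LinearMap.mem_ker.1 hw).symm

variable {G : Subgroup (LinearMap.GeneralLinearGroup (ZMod p) M)} {d : ℕ} {a b : Module.End (ZMod p) M}

namespace Frame

variable (F : Frame G d a b)
include F

/-- An element of the unipotent group commuting with all of it lies in the root group. -/
theorem flag_center {u : GL'} (hu : u ∈ flagOf G a) (hc : ∀ v ∈ flagOf G a, u * v = v * u) : u ∈ Rg G a := by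
  obtain ⟨w, τ, hw, hτ, e⟩ := F.exists_decomp hu
  have hR : Rad G a b w := by
    refine ⟨hw, fun v hv => ?_⟩
    obtain ⟨g, hg, gv⟩ := F.exists_flag hv (zero_mem _)
    have h := congrArg Units.val (hc g hg)
    rw [Units.val_mul, Units.val_mul, e, gv, add_zero] at h
    have el : e₁ a b * (hsq w + τ) = hsq w + τ := by rw [mul_add, F.hsq_left hw.1, F.rt_left hτ]
    have er : (hsq w + τ) * e₁ b a = hsq w + τ := by rw [add_mul, F.hsq_right hw.1, F.rt_right hτ]
    have e1 := F.wt_corner_left hw.1 (F.hsq_left hv.1)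
    have e2 := F.wt_corner_right hv.1 er
    have e3 : (hsq w + τ) * hsq v = 0 := orth er (F.hsq_left hv.1) F.mp
    have e4 := F.wt_corner_left hv.1 el
    have e5 := F.wt_corner_right hw.1 (F.hsq_right hv.1)
    have e6 : hsq v * (hsq w + τ) = 0 := orth (F.hsq_right hv.1) el F.mp
    have h' : (1 + w + hsq w + τ) * (1 + v + hsq v) - (1 + v + hsq v) * (1 + w + hsq w + τ) =
        (w * v - v * w) + (w * hsq v + (hsq w + τ) * v + (hsq w + τ) * hsq v)
          - (v * (hsq w + τ) + hsq v * w + hsq v * (hsq w + τ)) := by noncomm_ring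
    rw [h, sub_self, e1, e2, e3, e4, e5, e6, add_zero, add_zero, sub_zero, eq_comm, add_zero, sub_eq_zero] at h'
    exact h'
  rw [mem_Rg, e, F.rad_zero hR]
  simpa [hsq] using hτ

theorem levi_symm_eq : Levi G b a = Levi G a b :=
  le_antisymm (fun _ h => F.symm.levi_symm h) (fun _ h => F.levi_symm h)

/-- A p-subgroup normalised by the Levi subgroup fixes the corner. -/
theorem fix_corner {Z : Subgroup GL'} (hZ : Z ≤ Levi G a b) (hp : IsPGroup p Z)
    (hn : Levi G a b ≤ Subgroup.normalizer (Z : Set GL')) {z : GL'} (hz : z ∈ Z) :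
    (z : End') * e₁ a b = e₁ a b := by
  let N : Submodule k M := LinearMap.range (e₁ a b) ⊓
    ⨅ z : Z, LinearMap.eqLocus ((z : GL') : End') LinearMap.id
  have memN : ∀ {v}, v ∈ N ↔ v ∈ LinearMap.range (e₁ a b) ∧ ∀ z ∈ Z, (z : End') v = v := by
    intro v
    simp only [N, Submodule.mem_inf, Submodule.mem_iInf, LinearMap.mem_eqLocus, LinearMap.id_apply, Subtype.forall]
  have corner : ∀ {l}, l ∈ Levi G a b → ∀ {v}, v ∈ LinearMap.range (e₁ a b) →
      (l : End') v ∈ LinearMap.range (e₁ a b) := by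
    rintro l hl _ ⟨m, rfl⟩
    exact ⟨(l : End') m, by rw [← Module.End.mul_apply, ← hl.2.1.eq]; rfl⟩
  have hst : Stable (Levi G a b) N := fun l hl v hv => by
    obtain ⟨hv1, hv2⟩ := memN.1 hv
    refine memN.2 ⟨corner hl hv1, fun z hz => ?_⟩
    have hz' : l⁻¹ * z * l ∈ Z := (Subgroup.mem_normalizer_iff''.1 (hn hl) z).1 hz
    have h := hv2 _ hz'
    have h2 := congrArg (l : End') h
    rw [← Module.End.mul_apply, ← Units.val_mul, show l * (l⁻¹ * z * l) = z * l by group, Units.val_mul,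
      Module.End.mul_apply] at h2
    exact h2
  have hfull := F.corner_full inf_le_left hst fun W' hW' hne => by
    have hinv : Stable Z (W' ⊓ LinearMap.range (e₁ a b)) := fun z hz v hv =>
      ⟨hW' z (hZ hz).1 v hv.1, corner (hZ hz) hv.2⟩
    obtain ⟨v, hv, hv0, hfix⟩ := exists_fixed_vector hp hinv hne
    exact (Submodule.ne_bot_iff _).2 ⟨v, ⟨hv.1, memN.2 ⟨hv.2, hfix⟩⟩, hv0⟩
  refine LinearMap.ext fun m => ?_
  have hm : (e₁ a b) m ∈ N := hfull.ge ⟨m, rfl⟩
  exact (memN.1 hm).2 z hz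

/-- There is no non-trivial p-subgroup of the Levi subgroup normalised by it. -/
theorem levi_pCore {Z : Subgroup GL'} (hZ : Z ≤ Levi G a b) (hp : IsPGroup p Z)
    (hn : Levi G a b ≤ Subgroup.normalizer (Z : Set GL')) : Z = ⊥ := by
  have hp' : ∀ {z}, z ∈ Z → (z : End') * e₁ a b = e₁ a b := fun hz => F.fix_corner hZ hp hn hz
  have hm' : ∀ {z}, z ∈ Z → (z : End') * e₁ b a = e₁ b a := fun hz =>
    F.symm.fix_corner (F.levi_symm_eq.symm ▸ hZ) hp (F.levi_symm_eq.symm ▸ hn) hz
  have hp'' : ∀ {z}, z ∈ Z → e₁ a b * (z : End') = e₁ a b := fun hz => by rw [← (hZ hz).2.1.eq, hp' hz]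
  have hm'' : ∀ {z}, z ∈ Z → e₁ b a * (z : End') = e₁ b a := fun hz => by rw [← (hZ hz).2.2.eq, hm' hz]
  have hfa : ∀ {z}, z ∈ Z → ∀ c ∈ Rt G a, (z : End') * c = c ∧ c * (z : End') = c := fun {z} hz c hc =>
    ⟨by rw [← F.rt_left hc, ← mul_assoc, hp' hz], by rw [← F.rt_right hc, mul_assoc, hm'' hz]⟩
  have hfb : ∀ {z}, z ∈ Z → ∀ c ∈ Rt G b, (z : End') * c = c ∧ c * (z : End') = c := fun {z} hz c hc =>
    ⟨by rw [← F.rb_left hc, ← mul_assoc, hm' hz], by rw [← F.rb_right hc, mul_assoc, hp'' hz]⟩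
  refine (Subgroup.eq_bot_iff_forall _).2 fun z hz => ?_
  have hzi := inv_mem hz
  set η : End' := (z : End') - ((z⁻¹ : GL') : End') with hη
  have ηp : η * e₁ a b = 0 := by rw [hη, sub_mul, hp' hz, hp' hzi, sub_self]
  have pη : e₁ a b * η = 0 := by rw [hη, mul_sub, hp'' hz, hp'' hzi, sub_self]
  have ηm : η * e₁ b a = 0 := by rw [hη, sub_mul, hm' hz, hm' hzi, sub_self]
  have mη : e₁ b a * η = 0 := by rw [hη, mul_sub, hm'' hz, hm'' hzi, sub_self]
  have diff : ∀ v, InU G a b v → cj z v - cj z⁻¹ v = η * v - v * η := by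
    intro v hv
    have split : ∀ {g}, g ∈ Z → cj g v = (g : End') * (v * e₁ b a) + e₁ a b * v * ((g⁻¹ : GL') : End') := by
      intro g hg
      have q : v = v * e₁ b a + e₁ a b * v := by
        conv_lhs => rw [← mul_one v, ← F.sum_one, mul_add, mul_add, F.wt_ep_right hv.1, zero_add,
          ← F.wt_left hv.1, add_comm]
      conv_lhs => rw [cj_apply, q]
      rw [mul_add, add_mul, ← mul_assoc (g : End') (e₁ a b), hp' hg, mul_assoc (g : End') (v * e₁ b a),
        mul_assoc v (e₁ b a), hm'' (inv_mem hg)]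
    have ev : η * v = η * (v * e₁ b a) := by
      have q : v = v * e₁ b a + e₁ a b * v := by
        conv_lhs => rw [← mul_one v, ← F.sum_one, mul_add, mul_add, F.wt_ep_right hv.1, zero_add,
          ← F.wt_left hv.1, add_comm]
      conv_lhs => rw [q]
      rw [mul_add, ← mul_assoc η (e₁ a b), ηp, zero_mul, add_zero]
    have ev' : v * η = e₁ a b * v * η := by
      have q : v = v * e₁ b a + e₁ a b * v := by
        conv_lhs => rw [← mul_one v, ← F.sum_one, mul_add, mul_add, F.wt_ep_right hv.1, zero_add,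
          ← F.wt_left hv.1, add_comm]
      conv_lhs => rw [q]
      rw [add_mul, mul_assoc v, mη, mul_zero, zero_add]
    rw [split hz, split hzi, inv_inv, ev, ev', hη]
    noncomm_ring
  have vv : ∀ {u v}, InU G a b u → InU G a b v → e₁ a b * (u * η * v) = u * η * v ∧
      u * η * v * e₁ b a = u * η * v ∧ η * v * u = η * (v * u) ∧ η * (v * u) = 0 ∧ v * u * η = 0 := by
    intro u v hu hv
    refine ⟨?_, ?_, mul_assoc _ _ _, ?_, ?_⟩
    · have ηo : η = e₀ a b * η := by
        conv_lhs => rw [← one_mul η, ← F.sum_one, add_mul, add_mul, pη, mη, zero_add, add_zero]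
      rw [← mul_assoc, ← mul_assoc, F.wt_left hu.1, mul_assoc u, ← ηo]
    · have ηo : η = η * e₀ a b := by
        conv_lhs => rw [← mul_one η, ← F.sum_one, mul_add, mul_add, ηp, ηm, zero_add, add_zero]
      rw [mul_assoc, ← F.wt_mid hv.1, ← mul_assoc, mul_assoc u η, ← ηo]
    · rw [← F.mul_left_corner hv.1 hu.1, ← mul_assoc, ηp, zero_mul]
    · rw [← F.mul_right_corner hv.1 hu.1, mul_assoc, mη, mul_zero]
  have hDU : ∀ v, InU G a b v → InU G a b (η * v - v * η) := fun v hv => diff v hv ▸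
    F.inU_sub (F.levi_inU (hZ hz) hv) (F.levi_inU (hZ hzi) hv)
  have diag : ∀ v, InU G a b v → v * η * v = 0 := by
    intro v hv
    obtain ⟨Pl, Pr, -, z1, z2⟩ := vv hv hv
    have hom := F.omega_mem hv (hDU v hv)
    have e : v * (η * v - v * η) - (η * v - v * η) * v =
        (v * η * v + v * η * v) - v * v * η - η * (v * v) := by noncomm_ring
    rw [e, z1, z2, sub_zero, sub_zero, ← two_smul k] at hom
    have hP : v * η * v ∈ Rt G a := by
      have := Submodule.smul_mem _ (2 : k)⁻¹ hom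
      rwa [smul_smul, inv_mul_cancel₀ F.two_ne, one_smul] at this
    by_contra hne
    obtain ⟨y, hy, -, -, -, ePy, -⟩ := F.rt_inverse hP hne
    -- a shift and its Levi element
    have hl : ∃ c, c ∈ Rt G a ∧ Inv a b (hsq v - c) ∧ ∃ l ∈ Levi G a b, ∀ S, e₁ b a * S = S → S * e₁ a b = S →
        (hsq v - c) * S = -e₁ a b → (l : End') * e₀ a b = e₀ a b + v * S * v := by
      rcases F.shift_dichotomy hv (zero_mem _) F.hb.self_mem F.hb.ne with ⟨-, h2, l, hl, -, -, elo⟩ | h0
      · exact ⟨0, zero_mem _, h2, l, hl, elo⟩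
      rcases F.shift_dichotomy hv F.ha.self_mem F.hb.self_mem F.hb.ne with ⟨-, h2, l, hl, -, -, elo⟩ | h1
      · exact ⟨a, F.ha.self_mem, h2, l, hl, elo⟩
      exfalso
      rcases F.shift_cases hv F.hb.self_mem F.hb.ne with ⟨hI, -⟩ | ⟨-, hI1, hI2, -⟩
      · exact F.hb.ne (F.inv_triple (c := 0) F.hb.self_mem (by rwa [add_zero]) (by rwa [sub_zero]) h0)
      · exact F.hb.ne (F.inv_triple F.hb.self_mem hI1 hI2 h1)
    obtain ⟨c, hc, ⟨S, hSl, hSr, hTS, hST⟩, l, hlL, elo⟩ := hl
    have hlo := elo S hSl hSr hTS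
    set T' := hsq v - c with hT'
    have Vx : e₀ a b * (v * e₁ b a) = v * e₁ b a := by
      rw [← mul_assoc, F.wt_mid hv.1, mul_assoc v, F.mm]
    have key : v * e₁ b a = ((l : End') * (e₀ a b) - e₀ a b) * η * (v * e₁ b a) * (y * T') := by
      have Pr' : v * η * (v * e₁ b a) = v * η * v := by rw [← mul_assoc, Pr]
      rw [hlo, add_sub_cancel_left]
      calc v * e₁ b a = v * S * (-e₁ a b) * T' := by
            rw [mul_neg, mul_assoc v S, hSr, neg_mul, mul_assoc v S T', hST, mul_neg, neg_neg]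
        _ = v * S * ((v * η * (v * e₁ b a)) * y) * T' := by rw [Pr', ePy]
        _ = _ := by simp only [mul_assoc]
    -- a minimal stable subspace
    let 𝔉 : Set (Submodule k M) := {F' | Stable (Levi G a b) F' ∧ LinearMap.range (v * e₁ b a) ≤ F'}
    obtain ⟨F₁, ⟨hF1, hVF⟩, hmin⟩ := (wellFounded_lt (α := Submodule k M)).has_min 𝔉
      ⟨⊤, fun _ _ _ _ => trivial, le_top⟩
    let F₀ : Submodule k M := Submodule.span k {m | ∃ z ∈ Z, ∃ u ∈ F₁, m = (z : End') u - u}
    have hF0st : Stable (Levi G a b) F₀ := by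
      intro g hg m hm
      have : F₀ ≤ F₀.comap (g : End') := Submodule.span_le.2 (by
        rintro _ ⟨x, hx, u, hu, rfl⟩
        refine Submodule.subset_span ⟨g * x * g⁻¹, (Subgroup.mem_normalizer_iff.1 (hn hg) x).1 hx,
          (g : End') u, hF1 g hg u hu, ?_⟩
        rw [map_sub, ← Module.End.mul_apply ((g * x * g⁻¹ : GL') : End'), ← Units.val_mul,
          show g * x * g⁻¹ * g = g * x by group, Units.val_mul]
        rfl)
      exact this hm
    have hne1 : F₁ ≠ ⊥ := fun h => hne (by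
      have h0 : v * e₁ b a = 0 := LinearMap.range_eq_bot.1 (le_bot_iff.1 (h ▸ hVF))
      rw [← Pr, mul_assoc, h0, mul_zero])
    have hle : F₀ ≤ F₁ := Submodule.span_le.2 (by
      rintro _ ⟨x, hx, u, hu, rfl⟩
      exact sub_mem (hF1 x (hZ hx) u hu) hu)
    have hVF0 : LinearMap.range (v * e₁ b a) ≤ F₀ := by
      rintro _ ⟨m, rfl⟩
      rw [key]
      simp only [Module.End.mul_apply]
      have hu : v ((e₁ b a) (y (T' m))) ∈ F₁ := hVF ⟨y (T' m), rfl⟩
      have hηu : η (v ((e₁ b a) (y (T' m)))) ∈ F₀ := by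
        rw [hη, LinearMap.sub_apply, ← sub_sub_sub_cancel_right _ _ (v ((e₁ b a) (y (T' m))))]
        exact sub_mem (Submodule.subset_span ⟨z, hz, _, hu, rfl⟩) (Submodule.subset_span ⟨z⁻¹, hzi, _, hu, rfl⟩)
      have ηo : e₀ a b * η = η := by
        conv_rhs => rw [← one_mul η, ← F.sum_one, add_mul, add_mul, pη, mη, zero_add, add_zero]
      rw [LinearMap.sub_apply, Module.End.mul_apply, ← Module.End.mul_apply (e₀ a b) η, ηo]
      exact sub_mem (hF0st l hlL _ hηu) hηu
    exact moves_lt hp (fun g hg => hF1 g (hZ hg)) hne1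
      (hle.lt_or_eq.resolve_left (hmin F₀ ⟨hF0st, hVF0⟩)).ge
  have hD0 : ∀ v, InU G a b v → η * v - v * η = 0 := fun v hv => F.rad_zero ⟨hDU v hv, fun u hu => by
    obtain ⟨-, -, -, z1, z2⟩ := vv hu hv
    obtain ⟨-, -, -, z1', z2'⟩ := vv hv hu
    have h := diag _ (F.inU_add hu hv)
    have e : (u + v) * η * (u + v) = u * η * u + v * η * v + (u * η * v + v * η * u) := by noncomm_ring
    rw [h, diag u hu, diag v hv, zero_add, zero_add] at e
    have e' : (η * v - v * η) * u - u * (η * v - v * η) = η * (v * u) + u * v * η - (u * η * v + v * η * u) := by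
      noncomm_ring
    rw [z1, z2', ← e, add_zero, sub_zero, sub_eq_zero] at e'
    exact e'⟩
  -- the square centralises the group
  have hzG : z ∈ G := (hZ hz).1
  let C : Subgroup GL' := Subgroup.centralizer {z * z}
  have hcomm : ∀ v, InU G a b v → ((z * z : GL') : End') * v = v * ((z * z : GL') : End') := fun v hv => by
    have h := sub_eq_zero.1 ((diff v hv).trans (hD0 v hv))
    have h2 := congrArg (fun s => (z : End') * s * (z : End')) h
    simp only [cj_apply, inv_inv, ← mul_assoc, ← Units.val_mul, mul_inv_cancel, one_mul, Units.val_one] at h2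
    simp only [mul_assoc, ← Units.val_mul, inv_mul_cancel, Units.val_one, mul_one] at h2
    rw [Units.val_mul, mul_assoc]
    exact h2
  have hz2 : z * z ∈ Z := mul_mem hz hz
  have hU : flagOf G a ≤ C := fun u hu => by
    obtain ⟨w, τ, hw, hτ, e⟩ := F.exists_decomp hu
    rw [Subgroup.mem_centralizer_singleton_iff]
    refine Units.ext ?_
    have c2 : ((z * z : GL') : End') * hsq w = hsq w * ((z * z : GL') : End') := by
      rw [hsq, mul_smul_comm, smul_mul_assoc, ← mul_assoc, hcomm w hw, mul_assoc w, hcomm w hw, ← mul_assoc]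
    rw [Units.val_mul, Units.val_mul _ u, e]
    simp only [mul_add, add_mul, mul_one, one_mul, hcomm w hw, c2, (hfa hz2 τ hτ).1, (hfa hz2 τ hτ).2]
  have hB : Rg G b ≤ C := fun g hg => by
    rw [Subgroup.mem_centralizer_singleton_iff]
    refine Units.ext ?_
    have h := hfb hz2 _ (mem_Rg.1 hg)
    rw [Units.val_mul, Units.val_mul _ g, show (g : End') = 1 + ((g : End') - 1) from (add_sub_cancel _ _).symm]
    simp only [mul_add, add_mul, mul_one, one_mul, h.1, h.2]
  have hX : ((z * z : GL') : End') - 1 = 0 := by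
    refine F.eq_zero_of_kills (by rw [sub_mul, hp' hz2, one_mul, sub_self])
      (by rw [sub_mul, (hfb hz2 b F.hb.self_mem).1, one_mul, sub_self]) (fun v β hv hβ => ?_)
      (fun β hβ => by rw [sub_mul, (hfb hz2 β hβ).1, one_mul, sub_self]) (fun m hm => ?_)
    · rw [sub_mul, hcomm v hv, one_mul, sub_mul, mul_assoc v, (hfb hz2 β hβ).1, sub_self]
    · rw [LinearMap.sub_apply, hm _ (mul_mem hzG hzG), Module.End.one_apply, sub_self]
  have hzz : z * z = 1 := eq_one_of_sub hX
  by_contra h1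
  have h2 : p ∣ orderOf (⟨z, hz⟩ : Z) := hp.dvd_orderOf fun h => h1 (congrArg Subtype.val h)
  have h4 : orderOf (⟨z, hz⟩ : Z) ∣ 2 := orderOf_dvd_of_pow_eq_one (Subtype.ext (by rw [sq]; exact hzz))
  have h5 : p ∣ 2 := h2.trans h4
  exact F.two_ne (by exact_mod_cast (ZMod.natCast_eq_zero_iff 2 p).2 h5)

end Frame

end Cfsg.Agent.RootParabolic
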