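import Cfsg.Agent.Lib.Local.RootParabolic.Frame

/-!
The Levi element attached to a weight one element and a shift, and the dichotomy for the shifts.
-/

set_option autoImplicit false
set_option linter.unusedSectionVars false
set_option linter.unusedVariables false
set_option linter.unusedSimpArgs false

namespace Cfsg.Agent.RootParabolic

open Cfsg Cfsg.Agent.Lead.QP Cfsg.Agent.EquivQuad

variable {p : ℕ} [Fact p.Prime] {M : Type} [AddCommGroup M] [Module (ZMod p) M] [Module.Finite (ZMod p) M]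

local notation "k" => ZMod p
local notation "End'" => Module.End k M
local notation "GL'" => LinearMap.GeneralLinearGroup k M

/-- An element of the upper corner has an inverse in the lower corner. -/
def Inv (a b X : End') : Prop :=
  ∃ S : End', e₁ b a * S = S ∧ S * e₁ a b = S ∧ X * S = -e₁ a b ∧ S * X = -e₁ b a

variable {G : Subgroup (LinearMap.GeneralLinearGroup (ZMod p) M)} {d : ℕ} {a b : Module.End (ZMod p) M}

namespace Frame

variable (F : Frame G d a b)
include F

theorem a_left : e₁ a b * a = a := e₁_x F.hp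
theorem a_right : a * e₁ b a = a := x_e₁' F.hp
theorem b_left : e₁ b a * b = b := e₁_x F.hp.symm
theorem b_right : b * e₁ a b = b := x_e₁' F.hp.symm

theorem ab : a * b = -e₁ a b := (neg_neg _).symm
theorem ba : b * a = -e₁ b a := (neg_neg _).symm

/-- A right inverse in the corners is an inverse. -/
theorem inv_of_right {X S : End'} (hXr : X * e₁ b a = X) (hXl : e₁ a b * X = X) (hSl : e₁ b a * S = S)
    (hSr : S * e₁ a b = S) (h : S * X = -e₁ b a) : X * S = -e₁ a b := by
  let P : End' := b * X + (1 - e₁ b a)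
  let Q : End' := S * a + (1 - e₁ b a)
  have hbX : e₁ b a * (b * X) = b * X := by rw [← mul_assoc, F.b_left]
  have hXb' : b * X * e₁ b a = b * X := by rw [mul_assoc, hXr]
  have hSa : e₁ b a * (S * a) = S * a := by rw [← mul_assoc, hSl]
  have hSa' : S * a * e₁ b a = S * a := by rw [mul_assoc, F.a_right]
  have hQP : Q * P = 1 := by
    have e : S * a * (b * X) = e₁ b a := by
      rw [mul_assoc, ← mul_assoc a b, F.ab, neg_mul, hXl, mul_neg, h, neg_neg]
    calc Q * P = S * a * (b * X) + (S * a - S * a * e₁ b a) + (b * X - e₁ b a * (b * X))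
          + (1 - e₁ b a - e₁ b a + e₁ b a * e₁ b a) := by simp only [P, Q]; noncomm_ring
      _ = 1 := by rw [e, hSa', hbX, F.mm]; abel
  have hPQ : P * Q = 1 := mul_eq_one_comm.1 hQP
  have e : b * X * (S * a) = e₁ b a := by
    have hh : P * Q = b * X * (S * a) + (b * X - b * X * e₁ b a) + (S * a - e₁ b a * (S * a))
          + (1 - e₁ b a - e₁ b a + e₁ b a * e₁ b a) := by simp only [P, Q]; noncomm_ring
    rw [hXb', hSa, F.mm, hPQ, sub_self, sub_self, add_zero, add_zero] at hh
    linear_combination (norm := abel_nf) -hh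
  have h1 := congrArg (fun s => a * s * b) e
  have l : a * (b * X * (S * a)) * b = X * S := by
    calc a * (b * X * (S * a)) * b = (a * b) * X * S * (a * b) := by simp only [mul_assoc]
      _ = X * S := by
        rw [F.ab, neg_mul, hXl, neg_mul, neg_mul_neg, mul_assoc, hSr]
  rw [l, F.a_right, F.ab] at h1
  exact h1

/-- A left inverse in the corners is an inverse. -/
theorem inv_of_left {X S : End'} (hXr : X * e₁ b a = X) (hXl : e₁ a b * X = X) (hSl : e₁ b a * S = S)
    (hSr : S * e₁ a b = S) (h : X * S = -e₁ a b) : S * X = -e₁ b a :=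
  F.symm.inv_of_right hSr hSl hXl hXr h

theorem inv_mk {X S : End'} (hXr : X * e₁ b a = X) (hXl : e₁ a b * X = X) (hSl : e₁ b a * S = S)
    (hSr : S * e₁ a b = S) (h : S * X = -e₁ b a) : Inv a b X :=
  ⟨S, hSl, hSr, F.inv_of_right hXr hXl hSl hSr h, h⟩

theorem inv_unique {X S S' : End'} (hSl : e₁ b a * S = S) (hS'r : S' * e₁ a b = S') (h : S * X = -e₁ b a)
    (h' : X * S' = -e₁ a b) (hSr : S * e₁ a b = S) (hS'l : e₁ b a * S' = S') : S = S' := by
  have := congrArg (fun s => s * S') h
  simp only [mul_assoc, h', mul_neg, hSr, neg_mul, hS'l] at this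
  exact neg_inj.1 this

theorem shift_corner {w c : End'} (hw : InU G a b w) (hc : c ∈ Rt G a) :
    e₁ a b * (hsq w + c) = hsq w + c ∧ (hsq w + c) * e₁ b a = hsq w + c :=
  ⟨by rw [mul_add, F.hsq_left hw.1, F.rt_left hc], by rw [add_mul, F.hsq_right hw.1, F.rt_right hc]⟩

theorem mid_zero {w X Y : End'} (h : Wt a b w) (hX : X * e₁ a b = X) (hY : e₁ b a * Y = Y) : X * w * Y = 0 := by
  refine orth (q := e₀ a b) ?_ hY F.om
  rw [← hX, mul_assoc X, F.wt_left h, mul_assoc X, mul_assoc w, F.oo]

/-- Inverse shifts of a weight one element give an element of the Levi subgroup; otherwise a triple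
product vanishes. -/
theorem shift_dichotomy {w c b' : End'} (hw : InU G a b w) (hc : c ∈ Rt G a) (hb' : b' ∈ Rt G b) (hb0 : b' ≠ 0) :
    (Inv a b (hsq w + c) ∧ Inv a b (hsq w - c) ∧ ∃ l ∈ Levi G a b,
        ((l⁻¹ : GL') : End') * e₁ a b = (hsq w + c) * b' ∧
        (l : End') * e₁ b a = -(b' * (hsq w - c)) ∧
        ∀ S, e₁ b a * S = S → S * e₁ a b = S → (hsq w - c) * S = -e₁ a b →
          (l : End') * e₀ a b = e₀ a b + w * S * w) ∨
      (hsq w + c) * b' * (hsq w - c) = 0 := by
  obtain ⟨u, hu, uv⟩ := F.exists_flag hw hc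
  set T := hsq w + c with hT
  set T' := hsq w - c with hT'
  have Tl : e₁ a b * T = T := (F.shift_corner hw hc).1
  have Tr : T * e₁ b a = T := (F.shift_corner hw hc).2
  have T'l : e₁ a b * T' = T' := by rw [hT', mul_sub, F.hsq_left hw.1, F.rt_left hc]
  have T'r : T' * e₁ b a = T' := by rw [hT', sub_mul, F.hsq_right hw.1, F.rt_right hc]
  have uv' : (u : End') = 1 + w + T := by rw [uv, hT]; abel
  have eT : T + T' = w * w := by rw [hT, hT', ← F.two_hsq]; abel
  have wT : w * T' = 0 := F.wt_corner_left hw.1 T'l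
  have wT2 : w * T = 0 := F.wt_corner_left hw.1 Tl
  have Tw : T * w = 0 := F.wt_corner_right hw.1 Tr
  have T'w : T' * w = 0 := F.wt_corner_right hw.1 T'r
  have TT' : T * T' = 0 := orth Tr T'l F.mp
  have uiv : ((u⁻¹ : GL') : End') = 1 - w + T' := Units.inv_eq_of_mul_eq_one_right (by
    rw [uv']
    calc (1 + w + T) * (1 - w + T') = 1 + (T + T') - w * w + (w * T' + T * T') - T * w := by noncomm_ring
      _ = 1 := by rw [eT, wT, TT', Tw]; abel)
  obtain ⟨qb', br, bk⟩ := Rt_qd F.hs F.hb hb' hb0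
  have bl : e₁ b a * b' = b' := F.rb_left hb'
  have bre : b' * e₁ a b = b' := F.rb_right hb'
  have hn : G ≤ Subgroup.normalizer (G : Set GL') := Subgroup.le_normalizer
  set ε := cj u b' with hε
  have qε : Qd G d ε := qb'.cj (hn hu.1)
  -- the corner of the product
  have bwe : b' * w * b' = 0 := F.mid_zero hw.1 bre bl
  have bub : b' * (u : End') = b' + b' * w + b' * T := by rw [uv', mul_add, mul_add, mul_one]
  have uib : ((u⁻¹ : GL') : End') * b' = b' - w * b' + T' * b' := by rw [uiv, add_mul, sub_mul, one_mul]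
  have bεb : b' * ε * b' = b' * (T * b' * T') * b' := by
    rw [hε, cj_apply]
    calc b' * ((u : End') * b' * ((u⁻¹ : GL') : End')) * b'
        = (b' * (u : End')) * b' * (((u⁻¹ : GL') : End') * b') := by simp only [mul_assoc]
      _ = (b' * b' + b' * w * b' + b' * T * b') * (b' - w * b' + T' * b') := by rw [bub, uib]; noncomm_ring
      _ = b' * T * b' * (b' - w * b' + T' * b') := by rw [qb'.sq, bwe, zero_add, zero_add]
      _ = b' * T * (b' * b') - b' * T * (b' * w * b') + b' * (T * b' * T') * b' := by noncomm_ring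
      _ = _ := by rw [qb'.sq, bwe, mul_zero, sub_zero, zero_add]
  obtain ⟨a', ha', qb'', qa', pair', eba, eab⟩ := F.symm.rt_inverse hb' hb0
  have sand : ∀ X : End', e₁ a b * X = X → X * e₁ b a = X → a' * (b' * X * b') * a' = X := fun X h1 h2 => by
    calc a' * (b' * X * b') * a' = (a' * b') * X * (b' * a') := by simp only [mul_assoc]
      _ = X := by rw [eab, eba, neg_mul, h1, neg_mul_neg, h2]
  have Xl : e₁ a b * (T * b' * T') = T * b' * T' := by rw [← mul_assoc, ← mul_assoc, Tl]
  have Xr : T * b' * T' * e₁ b a = T * b' * T' := by rw [mul_assoc, T'r]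
  rcases F.hs.dichotomy qε qb' with ho | ⟨-, h0⟩
  swap
  · right
    rw [← sand _ Xl Xr, ← bεb, h0, mul_zero, zero_mul]
  left
  obtain ⟨y, hyr, qy, -, eεy, eyε⟩ := F.hs.inverse qε qb' ho
  rw [Rt_eq_of_mem F.hs F.hb hb' hb0] at hyr
  have yl : e₁ b a * y = y := F.rb_left hyr
  have yr : y * e₁ a b = y := F.rb_right hyr
  obtain ⟨ay, hay, -, qay, pairy, eya, eay⟩ := F.symm.rt_inverse hyr qy.ne
  have yεy' : y * ε * y = y * (T * b' * T') * y := by
    rw [hε, cj_apply]
    have yub : y * (u : End') * b' = y * T * b' := by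
      rw [uv', mul_add, mul_add, mul_one, add_mul, add_mul]
      have e1 : y * b' = 0 := orth yr bl F.pm
      have e2 : y * w * b' = 0 := F.mid_zero hw.1 yr bl
      rw [e1, e2]; abel
    have uiy : b' * ((u⁻¹ : GL') : End') * y = b' * T' * y := by
      rw [uiv, mul_add, mul_sub, mul_one, add_mul, sub_mul]
      have e1 : b' * y = 0 := orth bre yl F.pm
      have e2 : b' * w * y = 0 := F.mid_zero hw.1 bre yl
      rw [e1, e2]; abel
    calc y * ((u : End') * b' * ((u⁻¹ : GL') : End')) * y
        = (y * (u : End') * b') * ((u⁻¹ : GL') : End') * y := by simp only [mul_assoc]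
      _ = y * T * (b' * ((u⁻¹ : GL') : End') * y) := by rw [yub]; simp only [mul_assoc]
      _ = _ := by rw [uiy]; simp only [mul_assoc]
  have hX : T * b' * T' = ay := by
    have h1 : ay * (y * (T * b' * T') * y) * ay = T * b' * T' := by
      calc ay * (y * (T * b' * T') * y) * ay = (ay * y) * (T * b' * T') * (y * ay) := by simp only [mul_assoc]
        _ = _ := by rw [eay, eya, neg_mul, Xl, neg_mul_neg, Xr]
    rw [← yεy', eyε] at h1
    rw [← h1, mul_neg, neg_mul, eay, neg_mul, F.rt_left hay, neg_neg]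
  -- the inverses
  have S'l : e₁ b a * (y * T * b') = y * T * b' := by rw [← mul_assoc, ← mul_assoc, yl]
  have S'r : y * T * b' * e₁ a b = y * T * b' := by rw [mul_assoc, bre]
  have S'T' : y * T * b' * T' = -e₁ b a := by
    rw [mul_assoc, mul_assoc, ← mul_assoc T, hX, eya]
  have T'S' : T' * (y * T * b') = -e₁ a b := F.inv_of_right T'r T'l S'l S'r S'T'
  have Sl : e₁ b a * (b' * T' * y) = b' * T' * y := by rw [← mul_assoc, ← mul_assoc, bl]
  have Sr : b' * T' * y * e₁ a b = b' * T' * y := by rw [mul_assoc, yr]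
  have TS : T * (b' * T' * y) = -e₁ a b := by rw [← mul_assoc, ← mul_assoc, hX, eay]
  refine ⟨⟨_, Sl, Sr, TS, F.inv_of_left Tr Tl Sl Sr TS⟩, ⟨_, S'l, S'r, T'S', S'T'⟩, ?_⟩
  -- the element
  have εε : ε * ε = 0 := qε.sq
  have yy : y * y = 0 := qy.sq
  set g : GL' := u⁻¹ * ((u1 y qy.sq)⁻¹ * (u1 ε qε.sq)⁻¹) with hg
  have gG : g ∈ G := mul_mem (inv_mem hu.1)
    (mul_mem (inv_mem (qy.mem.u1_mem qy.sq)) (inv_mem (qε.mem.u1_mem qε.sq)))
  have iy : (((u1 y qy.sq)⁻¹ : GL') : End') = 1 - y := rfl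
  have iε : (((u1 ε qε.sq)⁻¹ : GL') : End') = 1 - ε := rfl
  have gv : (g : End') = (1 - w + T') * ((1 - y) * (1 - ε)) := by
    rw [hg, Units.val_mul, Units.val_mul, uiv, iy, iε]
  have gy : cj g y = b' := by
    have e1 : cj (u1 ε qε.sq)⁻¹ y = y + y * ε - ε * y + ε := by
      rw [cj_apply, inv_inv, iε, u1_val]
      calc (1 - ε) * y * (1 + ε) = y + y * ε - ε * y - ε * y * ε := by noncomm_ring
        _ = _ := by rw [eεy]; abel
    have e2 : cj (u1 y qy.sq)⁻¹ (y + y * ε - ε * y + ε) = ε := by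
      rw [cj_apply, inv_inv, iy, u1_val]
      calc (1 - y) * (y + y * ε - ε * y + ε) * (1 + y)
          = y + y * ε - ε * y + ε + (y * y + y * ε * y - ε * (y * y) + ε * y)
            - (y * y + (y * y) * ε - y * ε * y + y * ε)
            - (y * (y * y) + (y * y) * (ε * y) - y * ε * (y * y) + y * ε * y) := by noncomm_ring
        _ = ε := by rw [yy, eyε]; simp; abel
    rw [hg, ← cj_comp, ← cj_comp, e1, e2, hε, cj_inv]
  have gy' : (g : End') * y = b' * (g : End') := by
    rw [← gy, cj_apply, mul_assoc, ← Units.val_mul, inv_mul_cancel, Units.val_one, mul_one]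
  have hp2 : IsPair b' (cj g ay) := by
    rw [← gy]
    exact ⟨by rw [← cj_mul, pairy.xx, map_zero], by rw [← cj_mul, pairy.yy, map_zero],
      by rw [← cj_mul, ← cj_mul, pairy.xyx, map_neg], by rw [← cj_mul, ← cj_mul, pairy.yxy, map_neg]⟩
  obtain ⟨u', hu', huy⟩ := inverse_transitive F.hs.h2 F.h3 qb' (qay.cj (hn gG)) qa' hp2 pair'
  set l : GL' := u' * g with hl
  have ly : cj l y = b' := by rw [hl, ← cj_comp, gy, flagOf_fix hu']
  have la : cj l ay = a' := by rw [hl, ← cj_comp, huy]
  have comm : ∀ e : End', cj l e = e → Commute (l : End') e := fun e h => by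
    have h1 := congrArg (fun s => s * (l : End')) h
    simp only [cj_apply, mul_assoc, ← Units.val_mul, inv_mul_cancel, Units.val_one, mul_one] at h1
    exact h1
  have lp : cj l (e₁ a b) = e₁ a b := by
    rw [show e₁ a b = -(ay * y) by rw [eay, neg_neg], map_neg, cj_mul, la, ly, eab, eay]
  have lm : cj l (e₁ b a) = e₁ b a := by
    rw [show e₁ b a = -(y * ay) by rw [eya, neg_neg], map_neg, cj_mul, la, ly, eba, eya]
  have hlL : l ∈ Levi G a b := ⟨mul_mem hu'.1 gG, comm _ lp, comm _ lm⟩
  -- the unipotent correction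
  obtain ⟨f1, f2, f3⟩ := mem_flag.1 hu'.2
  set c' := (u' : End') - 1 with hc'
  have u'v : (u' : End') = 1 + c' := by rw [hc', add_sub_cancel]
  have bc : b' * c' = 0 := LinearMap.ext fun v => LinearMap.mem_ker.1 (f1 v)
  have cb : c' * b' = 0 := LinearMap.ext fun v => by
    rw [hc', Module.End.mul_apply, LinearMap.sub_apply, Module.End.one_apply, f3 _ ⟨v, rfl⟩, sub_self]; rfl
  have pc : e₁ a b * c' = 0 := by
    rw [show e₁ a b = -(a' * b') by rw [eab, neg_neg], neg_mul, mul_assoc, bc, mul_zero, neg_zero]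
  have cm : c' * e₁ b a = 0 := by
    rw [show e₁ b a = -(b' * a') by rw [eba, neg_neg], mul_neg, ← mul_assoc, cb, zero_mul, neg_zero]
  have oco : e₀ a b * c' * e₀ a b = 0 := LinearMap.ext fun v => by
    have hv0 : b' ((e₀ a b) v) = 0 := by
      rw [← bre, ← Module.End.mul_apply, mul_assoc, F.po, mul_zero]; rfl
    obtain ⟨m, hm⟩ := f2 _ (LinearMap.mem_ker.2 hv0)
    rw [Module.End.mul_apply, Module.End.mul_apply]
    change (e₀ a b) (c' ((e₀ a b) v)) = 0
    rw [show c' ((e₀ a b) v) = b' m from hm.symm, ← bl, ← Module.End.mul_apply, ← mul_assoc, F.om, zero_mul]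
    rfl
  have lv : (l : End') = (g : End') + c' * (g : End') := by rw [hl, Units.val_mul, u'v, add_mul, one_mul]
  -- the upper corner
  have pu : e₁ a b * (1 - w + T') = e₁ a b - e₁ a b * w + T' := by rw [mul_add, mul_sub, mul_one, T'l]
  have wy0 : e₁ a b * w * y = 0 := by
    rw [F.wt_left hw.1, mul_assoc, ← yl, ← mul_assoc (e₀ a b), F.om, zero_mul, mul_zero]
  have gpp : e₁ a b * (g : End') * e₁ a b = -(T' * y) := by
    have hεp : ε * e₁ a b = b' + w * b' + T * b' := by
      rw [hε, cj_apply, mul_assoc, uiv]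
      have : (1 - w + T') * e₁ a b = e₁ a b := by
        rw [add_mul, sub_mul, one_mul, F.wt_ep_right hw.1, ← T'r, mul_assoc, F.mp, mul_zero]; abel
      rw [this, mul_assoc, bre, uv', add_mul, add_mul, one_mul]
    have py : e₁ a b * y = 0 := by rw [← yl, ← mul_assoc, F.pm, zero_mul]
    have left : e₁ a b * (1 - w + T') * (1 - y) = e₁ a b - e₁ a b * w + T' - T' * y := by
      rw [pu, mul_sub, mul_one, add_mul, sub_mul, py, wy0]; abel
    calc e₁ a b * (g : End') * e₁ a b
        = (e₁ a b * (1 - w + T') * (1 - y)) * (e₁ a b - ε * e₁ a b) := by rw [gv]; noncomm_ring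
      _ = (e₁ a b - e₁ a b * w + T' - T' * y) * (e₁ a b - b' - w * b' - T * b') := by
        rw [left, hεp]; noncomm_ring
      _ = e₁ a b * e₁ a b - e₁ a b * b' - e₁ a b * w * b' - (e₁ a b * T) * b'
          - e₁ a b * (w * e₁ a b) + e₁ a b * w * b' + (e₁ a b * (w * w)) * b' + e₁ a b * (w * T) * b'
          + T' * e₁ a b - T' * b' - (T' * w) * b' - (T' * T) * b'
          - T' * (y * e₁ a b) + T' * (y * b') + T' * (y * w * b') + T' * (y * T * b') := by noncomm_ring
      _ = _ := by
        have e1 : e₁ a b * b' = 0 := by rw [← bl, ← mul_assoc, F.pm, zero_mul]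
        have e2 : T' * e₁ a b = 0 := by rw [← T'r, mul_assoc, F.mp, mul_zero]
        have e3 : T' * T = 0 := orth T'r Tl F.mp
        have e4 : y * b' = 0 := orth yr bl F.pm
        have e5 : y * w * b' = 0 := F.mid_zero hw.1 yr bl
        rw [F.pp, e1, F.wt_ep_right hw.1, F.mul_left_corner hw.1 hw.1, Tl, wT2, e2, T'w, e3, yr, e4, e5, T'S',
          ← eT]
        noncomm_ring
  have lpp : (l : End') * e₁ a b = -(T' * y) := by
    rw [← F.pp, ← mul_assoc, (comm _ lp).eq, lv, mul_add, ← mul_assoc (e₁ a b) c', pc, zero_mul, add_zero, gpp]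
  have linv : ((l⁻¹ : GL') : End') * e₁ a b = T * b' := by
    have h1 : (l : End') * (T * b') = e₁ a b := by
      calc (l : End') * (T * b') = (l : End') * e₁ a b * (T * b') := by
            rw [mul_assoc, ← mul_assoc (e₁ a b), Tl]
        _ = -(T' * (y * T * b')) := by rw [lpp, neg_mul]; simp only [mul_assoc]
        _ = _ := by rw [T'S', neg_neg]
    rw [← h1, ← mul_assoc, ← Units.val_mul, inv_mul_cancel, Units.val_one, one_mul]
  -- the lower corner
  have gem : (g : End') * e₁ b a = -(b' * T') := by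
    have range : (g : End') * e₁ b a = e₁ b a * ((g : End') * e₁ b a) := by
      rw [show e₁ b a = -(y * ay) by rw [eya, neg_neg], mul_neg, ← mul_assoc, gy']
      conv_lhs => rw [← bl]
      rw [show -(y * ay) = e₁ b a by rw [eya, neg_neg], mul_neg]
      simp only [mul_assoc]
    rw [range, gv]
    have mu : e₁ b a * (1 - w + T') = e₁ b a := by
      rw [mul_add, mul_sub, mul_one, F.wt_em_left hw.1, ← T'l, ← mul_assoc, F.mp, zero_mul]; abel
    have hεm : ε * e₁ b a = (b' * T') + w * (b' * T') + T * (b' * T') := by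
      rw [hε, cj_apply, mul_assoc, uiv]
      have : b' * ((1 - w + T') * e₁ b a) = b' * T' := by
        have e1 : b' * e₁ b a = 0 := by rw [← bre, mul_assoc, F.pm, mul_zero]
        have e2 : b' * w * e₁ b a = 0 := by
          exact F.mid_zero hw.1 bre F.mm
        rw [add_mul, sub_mul, one_mul, T'r, mul_add, mul_sub, e1, ← mul_assoc, e2]; abel
      rw [mul_assoc, this, uv', add_mul, add_mul, one_mul]
    calc e₁ b a * ((1 - w + T') * ((1 - y) * (1 - ε)) * e₁ b a)
        = (e₁ b a * (1 - w + T')) * (1 - y) * (e₁ b a - ε * e₁ b a) := by noncomm_ring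
      _ = (e₁ b a - e₁ b a * y) * (e₁ b a - (b' * T' + w * (b' * T') + T * (b' * T'))) := by
        rw [mu, hεm]; noncomm_ring
      _ = e₁ b a * e₁ b a - (e₁ b a * b') * T' - (e₁ b a * w) * (b' * T') - (e₁ b a * T) * (b' * T')
          - y * e₁ b a + (y * b') * T' + y * w * b' * T' + y * (T * b' * T') := by rw [yl]; noncomm_ring
      _ = _ := by
        have e1 : e₁ b a * T = 0 := by rw [← Tl, ← mul_assoc, F.mp, zero_mul]
        have e2 : y * e₁ b a = 0 := by rw [← yr, mul_assoc, F.pm, mul_zero]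
        have e4 : y * b' = 0 := orth yr bl F.pm
        have e5 : y * w * b' = 0 := F.mid_zero hw.1 yr bl
        rw [F.mm, bl, F.wt_em_left hw.1, e1, e2, e4, e5, hX, eya]
        noncomm_ring
  have lem : (l : End') * e₁ b a = -(b' * T') := by
    rw [lv, add_mul, mul_assoc c', gem, mul_neg, ← mul_assoc, cb, zero_mul, neg_zero, add_zero]
  refine ⟨l, hlL, linv, lem, fun S hSl hSr hS => ?_⟩
  -- the middle corner
  have hSe : y * T * b' = S := F.inv_unique S'l hSr S'T' hS S'r hSl
  have pgo : e₁ a b * (g : End') * e₀ a b = 0 := by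
    rw [show e₁ a b = -(a' * b') by rw [eab, neg_neg], neg_mul, mul_assoc a', ← gy', neg_mul, mul_assoc a',
      mul_assoc, ← yr, mul_assoc y, F.po, mul_zero, mul_zero, mul_zero, neg_zero]
  have goo : e₀ a b * (g : End') * e₀ a b = e₀ a b + w * S * w := by
    rw [gv]
    have ou : e₀ a b * (1 - w + T') = e₀ a b - w * e₁ b a := by
      rw [mul_add, mul_sub, mul_one, F.wt_mid hw.1, ← T'l, ← mul_assoc, F.op, zero_mul]; abel
    have oy : e₀ a b * y = 0 := by rw [← yl, ← mul_assoc, F.om, zero_mul]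
    have hεo : ε * e₀ a b = -(b' * w * e₀ a b + w * (b' * w) * e₀ a b + T * (b' * w) * e₀ a b) := by
      rw [hε, cj_apply, mul_assoc, uiv]
      have : b' * ((1 - w + T') * e₀ a b) = -(b' * w * e₀ a b) := by
        have e1 : b' * e₀ a b = 0 := by rw [← bre, mul_assoc, F.po, mul_zero]
        have e2 : T' * e₀ a b = 0 := by rw [← T'r, mul_assoc, F.mo, mul_zero]
        rw [add_mul, sub_mul, one_mul, e2, mul_add, mul_sub, e1, ← mul_assoc]; simp
      rw [mul_assoc, this, uv', add_mul, add_mul, one_mul]; noncomm_ring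
    calc e₀ a b * ((1 - w + T') * ((1 - y) * (1 - ε))) * e₀ a b
        = (e₀ a b * (1 - w + T')) * (1 - y) * (e₀ a b - ε * e₀ a b) := by noncomm_ring
      _ = (e₀ a b - w * e₁ b a + w * y) *
          (e₀ a b + b' * w * e₀ a b + w * (b' * w) * e₀ a b + T * (b' * w) * e₀ a b) := by
        rw [ou, hεo, mul_sub (e₀ a b - w * e₁ b a), mul_one, sub_mul _ _ y, oy, mul_assoc w, yl]; noncomm_ring
      _ = e₀ a b * e₀ a b + (e₀ a b * b') * w * e₀ a b + (e₀ a b * w) * (b' * w * e₀ a b)
            + (e₀ a b * T) * (b' * w) * e₀ a b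
          - w * (e₁ b a * e₀ a b) - w * ((e₁ b a * b') * w * e₀ a b) - w * ((e₁ b a * w) * (b' * w * e₀ a b))
            - w * ((e₁ b a * T) * (b' * w) * e₀ a b)
          + w * (y * e₀ a b) + w * ((y * b') * w * e₀ a b) + w * (y * w * b' * w * e₀ a b)
            + w * (y * T * b') * (w * e₀ a b) := by noncomm_ring
      _ = _ := by
        have e1 : e₀ a b * b' = 0 := by rw [← bl, ← mul_assoc, F.om, zero_mul]
        have e2 : e₀ a b * T = 0 := by rw [← Tl, ← mul_assoc, F.op, zero_mul]
        have e3 : e₁ b a * T = 0 := by rw [← Tl, ← mul_assoc, F.mp, zero_mul]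
        have e4 : y * e₀ a b = 0 := by rw [← yr, mul_assoc, F.po, mul_zero]
        have e5 : y * b' = 0 := orth yr bl F.pm
        have e6 : y * w * b' = 0 := F.mid_zero hw.1 yr bl
        have e7 : e₀ a b * w * (b' * w * e₀ a b) = w * (b' * w * e₀ a b) := by
          rw [F.wt_mid hw.1, mul_assoc w, ← mul_assoc (e₁ b a), ← mul_assoc (e₁ b a), bl]
        have e8 : S * (w * e₀ a b) = S * w := by
          conv_rhs => rw [← hSr, mul_assoc, F.wt_left hw.1]
        rw [F.oo, e1, e7, e2, F.mo, bl, F.wt_em_left hw.1, e3, e4, e5, e6, hSe, mul_assoc w S (w * e₀ a b), e8,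
          ← mul_assoc w S w]
        noncomm_ring
  have lo : Commute (l : End') (e₀ a b) := F.levi_e₀ hlL
  rw [← F.oo, ← mul_assoc, lo.eq, lv, mul_add, add_mul, mul_assoc (e₀ a b) (c' * (g : End')), goo, F.oo]
  have : e₀ a b * (c' * (g : End') * e₀ a b) = 0 := by
    have hd : (g : End') * e₀ a b = e₁ a b * ((g : End') * e₀ a b) + e₀ a b * ((g : End') * e₀ a b)
        + e₁ b a * ((g : End') * e₀ a b) := by rw [← add_mul, ← add_mul, F.sum_one, one_mul]
    rw [mul_assoc c', hd, mul_add, mul_add, ← mul_assoc (e₁ a b), pgo, zero_add,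
      ← mul_assoc c' (e₁ b a), cm, zero_mul, mul_zero, add_zero, ← mul_assoc c', ← mul_assoc (e₀ a b),
      ← mul_assoc (e₀ a b), oco, zero_mul]
  rw [this, add_zero]

end Frame

end Cfsg.Agent.RootParabolic
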