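import Cfsg.Agent.Lib.Lead.QP.Structure
import Cfsg.Agent.Lib.Local.EquivQuadratic.Orbits

/-!
The parabolic of a root element in a quadratic pair over a prime field: the frame of two mutually
inverse roots and the weight one elements of the unipotent group.
-/

set_option autoImplicit false
set_option linter.unusedSectionVars false
set_option linter.unusedVariables false
set_option linter.unusedSimpArgs false

namespace Cfsg.Agent.RootParabolic

open Cfsg Cfsg.Agent.Lead.QP Cfsg.Agent.EquivQuad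

variable {p : ℕ} [Fact p.Prime] {M : Type} [AddCommGroup M] [Module (ZMod p) M] [Module.Finite (ZMod p) M]

local notation "k" => ZMod p
local notation "End'" => Module.End k M
local notation "GL'" => LinearMap.GeneralLinearGroup k M

/-- An element of square zero lying in the group has its scalar family there. -/
theorem inFam_mem {G : Subgroup GL'} {g : GL'} (hg : g ∈ G) {X : End'} (hv : (g : End') = 1 + X)
    (hX : X * X = 0) : InFam G X := fun c => by
  refine ⟨g ^ c.val, G.pow_mem hg _, ?_⟩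
  have key : ∀ n : ℕ, ((g ^ n : GL') : End') = 1 + (n : k) • X := by
    intro n
    induction n with
    | zero => simp
    | succ n ih =>
      rw [pow_succ, Units.val_mul, ih, hv, Nat.cast_succ, add_smul, one_smul, mul_add, mul_one, add_mul, one_mul,
        smul_mul_assoc, hX, smul_zero, add_zero, add_assoc]
  rw [key, ZMod.natCast_zmod_val]

/-- A connected quadratic pair with two mutually inverse roots. -/
structure Frame (G : Subgroup GL') (d : ℕ) (a b : End') : Prop where
  hs : QS G d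
  ha : Qd G d a
  hb : Qd G d b
  hp : IsPair a b
  hpa : Partners G d
  hgen : GP G d a = G
  hss : ∀ W : Submodule k M, (∀ g ∈ G, ∀ v ∈ W, (g : End') v ∈ W) →
    ∃ W' : Submodule k M, (∀ g ∈ G, ∀ v ∈ W', (g : End') v ∈ W') ∧ IsCompl W W'
  h3 : (3 : k) ≠ 0

theorem opp_of {G : Subgroup GL'} {d : ℕ} (hs : QS G d) {x y : End'} (hx : Qd G d x) (hy : Qd G d y)
    (h : IsPair x y) : Opp x y := opp_of_pair hs hx hy h

/-- Weight one endomorphisms of a frame. -/
def Wt (a b w : End') : Prop := e₀ a b * w * e₁ b a + e₁ a b * w * e₀ a b = w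

/-- Half the square. -/
def hsq (w : End') : End' := (2 : k)⁻¹ • (w * w)

/-- The weight one parts of the unipotent group. -/
def InU (G : Subgroup GL') (a b w : End') : Prop := Wt a b w ∧ ∃ g ∈ G, (g : End') = 1 + w + hsq w

/-- The Levi subgroup of a frame. -/
def Levi (G : Subgroup GL') (a b : End') : Subgroup GL' where
  carrier := {g | g ∈ G ∧ Commute (g : End') (e₁ a b) ∧ Commute (g : End') (e₁ b a)}
  one_mem' := ⟨one_mem _, Commute.one_left _, Commute.one_left _⟩
  mul_mem' := fun {g h} ⟨g1, g2, g3⟩ ⟨h1, h2, h3⟩ =>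
    ⟨mul_mem g1 h1, g2.mul_left h2, g3.mul_left h3⟩
  inv_mem' := fun {g} ⟨g1, g2, g3⟩ => ⟨inv_mem g1, g2.units_inv_left, g3.units_inv_left⟩

theorem orth {X Y q q' : End'} (hX : X * q = X) (hY : q' * Y = Y) (h : q * q' = 0) : X * Y = 0 := by
  rw [← hX, ← hY, ← mul_assoc, mul_assoc X q q', h, mul_zero, zero_mul]

theorem range_le_of_left {X Y a : End'} (h : X = a * Y) : LinearMap.range X ≤ LinearMap.range a :=
  h ▸ range_mul_le _ _

theorem ker_le_of_right {X Y a : End'} (h : X = Y * a) : LinearMap.ker a ≤ LinearMap.ker X :=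
  h ▸ ker_le_ker_mul _ _

variable {G : Subgroup (LinearMap.GeneralLinearGroup (ZMod p) M)} {d : ℕ} {a b : Module.End (ZMod p) M}

namespace Frame

variable (F : Frame G d a b)
include F

theorem two_ne : (2 : k) ≠ 0 := F.hs.h2

theorem symm : Frame G d b a := by
  have hc : Con G d a b := Con.of_opp F.ha F.hb (opp_of F.hs F.ha F.hb F.hp)
  refine ⟨F.hs, F.hb, F.ha, F.hp.symm, F.hpa, ?_, F.hss, F.h3⟩
  rw [show GP G d b = GP G d a from le_antisymm (GP_le fun c h => Rg_le_GP (hc.trans h))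
    (GP_le fun c h => Rg_le_GP (hc.symm.trans h))]
  exact F.hgen

theorem sum_one : e₁ a b + e₀ a b + e₁ b a = 1 := by
  simp only [e₁, e₀]; abel

theorem pp : e₁ a b * e₁ a b = e₁ a b := e₁_e₁ F.hp
theorem mm : e₁ b a * e₁ b a = e₁ b a := e₁_e₁ F.hp.symm
theorem oo : e₀ a b * e₀ a b = e₀ a b := e₀_e₀ F.hp
theorem pm : e₁ a b * e₁ b a = 0 := e₁_e₁' F.hp
theorem mp : e₁ b a * e₁ a b = 0 := e₁_e₁' F.hp.symm
theorem po : e₁ a b * e₀ a b = 0 := e₁_e₀ F.hp
theorem op : e₀ a b * e₁ a b = 0 := e₀_e₁ F.hp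
theorem mo : e₁ b a * e₀ a b = 0 := e₁'_e₀ F.hp
theorem om : e₀ a b * e₁ b a = 0 := e₀_e₁' F.hp

theorem rt_left {c : End'} (hc : c ∈ Rt G a) : e₁ a b * c = c := by
  refine LinearMap.ext fun v => ?_
  obtain ⟨w, hw⟩ : c v ∈ LinearMap.range a := Rt_range hc ⟨v, rfl⟩
  rw [Module.End.mul_apply, ← hw]
  exact LinearMap.congr_fun (e₁_x F.hp) w

theorem rt_right {c : End'} (hc : c ∈ Rt G a) : c * e₁ b a = c := by
  refine LinearMap.ext fun v => ?_
  have h0 : a ((1 - e₁ b a) v) = 0 := by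
    rw [← Module.End.mul_apply, mul_sub, mul_one, x_e₁' F.hp, sub_self]; rfl
  have h1 : c ((1 - e₁ b a) v) = 0 := Rt_ker hc h0
  rw [LinearMap.sub_apply, Module.End.one_apply, map_sub, sub_eq_zero] at h1
  exact h1.symm

theorem rb_left {c : End'} (hc : c ∈ Rt G b) : e₁ b a * c = c := F.symm.rt_left hc

theorem rb_right {c : End'} (hc : c ∈ Rt G b) : c * e₁ a b = c := F.symm.rt_right hc

theorem mem_Rt_corner {X : End'} (hl : e₁ a b * X = X) (hr : X * e₁ b a = X) {g : GL'} (hg : g ∈ G)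
    (hv : (g : End') = 1 + X) : X ∈ Rt G a := by
  refine mem_Rt (ker_le_of_right (Y := -(X * b)) ?_) (range_le_of_left (Y := -(b * X)) ?_) F.ha.sq
    (inFam_mem hg hv (orth hr hl F.mp))
  · conv_lhs => rw [← hr]
    simp [e₁, mul_assoc]
  · conv_lhs => rw [← hl]
    simp [e₁, mul_assoc]

/-- An inverse of a root in the opposite root space. -/
theorem rt_inverse {c : End'} (hc : c ∈ Rt G a) (h0 : c ≠ 0) :
    ∃ y, y ∈ Rt G b ∧ Qd G d c ∧ Qd G d y ∧ IsPair c y ∧ c * y = -e₁ a b ∧ y * c = -e₁ b a := by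
  have qc := (Rt_qd F.hs F.ha hc h0).1
  obtain ⟨y, hy, qy, -, e, e'⟩ := F.hs.inverse qc F.hb
    ((opp_of F.hs F.ha F.hb F.hp).of_mem F.hs F.ha F.hb hc F.hb.self_mem h0 F.hb.ne)
  have hpair : IsPair c y := ⟨qc.sq, qy.sq, e, e'⟩
  refine ⟨y, hy, qc, qy, hpair, ?_, ?_⟩
  · have h1 : e₁ a b * e₁ c y = e₁ c y := by
      rw [show e₁ c y = -(c * y) from rfl, mul_neg, ← mul_assoc, F.rt_left hc]
    have h2 : e₁ c y * e₁ a b = e₁ c y := by
      rw [show e₁ c y = -(c * y) from rfl, neg_mul, mul_assoc, F.rb_right hy]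
    have h3 : e₁ c y * e₁ a b = e₁ a b := by
      refine LinearMap.ext fun v => ?_
      obtain ⟨w, hw⟩ : (e₁ a b) v ∈ LinearMap.range c := by
        rw [(Rt_qd F.hs F.ha hc h0).2.1]
        exact ⟨-(b v), by simp [e₁]⟩
      rw [Module.End.mul_apply, ← hw]
      exact LinearMap.congr_fun (e₁_x hpair) w
    rw [← h3, h2, show e₁ c y = -(c * y) from rfl, neg_neg]
  · have h2 : e₁ b a * e₁ y c = e₁ y c := by
      rw [show e₁ y c = -(y * c) from rfl, mul_neg, ← mul_assoc, F.rb_left hy]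
    have h3 : e₁ y c * e₁ b a = e₁ b a := by
      refine LinearMap.ext fun v => ?_
      obtain ⟨w, hw⟩ : (e₁ b a) v ∈ LinearMap.range y := by
        rw [(Rt_qd F.hs F.hb hy qy.ne).2.1]
        exact ⟨-(a v), by simp [e₁]⟩
      rw [Module.End.mul_apply, ← hw]
      exact LinearMap.congr_fun (e₁_x hpair.symm) w
    rw [show e₁ y c = -(y * c) from rfl, neg_mul, mul_assoc, F.rt_right hc] at h3
    rw [← h3, neg_neg]

/-- The central involution of the pair. -/
theorem exists_sign : ∃ s ∈ G, (s : End') = e₀ a b - e₁ a b - e₁ b a := by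
  let D : Matrix.SpecialLinearGroup (Fin 2) k := ⟨!![-1, 0; 0, -1], by simp [Matrix.det_fin_two_of]⟩
  refine ⟨toGL F.hp D, toGL_mem F.hp (fun g r hg => F.ha.mem.fam_subset ⟨r, hg⟩)
    (fun g r hg => F.hb.mem.fam_subset ⟨r, hg⟩) D, ?_⟩
  rw [toGL_val]
  simp [corner, D]
  abel

variable {w v : Module.End (ZMod p) M}

theorem wt_left (h : Wt a b w) : e₁ a b * w = w * e₀ a b := by
  conv_lhs => rw [← h]
  conv_rhs => rw [← h]
  simp only [mul_add, add_mul, mul_assoc, F.oo, ← mul_assoc (e₁ a b) (e₁ a b), F.pp, F.mo, mul_zero, zero_add]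
  simp only [← mul_assoc, F.po, zero_mul, zero_add]

theorem wt_mid (h : Wt a b w) : e₀ a b * w = w * e₁ b a := by
  conv_lhs => rw [← h]
  conv_rhs => rw [← h]
  simp only [mul_add, add_mul, mul_assoc, F.mm, F.om, ← mul_assoc (e₀ a b) (e₀ a b), F.oo, mul_zero, add_zero]
  simp only [← mul_assoc, F.op, zero_mul, add_zero]

theorem wt_em_left (h : Wt a b w) : e₁ b a * w = 0 := by
  conv_lhs => rw [← h]
  simp only [mul_add, ← mul_assoc, F.mo, F.mp, zero_mul, add_zero]

theorem wt_ep_right (h : Wt a b w) : w * e₁ a b = 0 := by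
  conv_lhs => rw [← h]
  simp only [add_mul, mul_assoc, F.mp, F.op, mul_zero, add_zero]

theorem a_wt (h : Wt a b w) : a * w = 0 := by
  rw [← x_e₁' F.hp, mul_assoc, F.wt_em_left h, mul_zero]

theorem wt_a (h : Wt a b w) : w * a = 0 := by
  rw [← e₁_x F.hp, ← mul_assoc, F.wt_ep_right h, zero_mul]

theorem mul_left_corner (h : Wt a b w) (h' : Wt a b v) : e₁ a b * (w * v) = w * v := by
  have e : (e₀ a b + e₁ b a) * (w * v) = 0 := by
    rw [add_mul, ← mul_assoc, F.wt_mid h, mul_assoc, F.wt_em_left h', mul_zero, ← mul_assoc, F.wt_em_left h,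
      zero_mul, add_zero]
  conv_rhs => rw [← one_mul (w * v), ← F.sum_one, add_assoc, add_mul, e, add_zero]

theorem mul_right_corner (h : Wt a b w) (h' : Wt a b v) : w * v * e₁ b a = w * v := by
  have e : w * v * (e₁ a b + e₀ a b) = 0 := by
    rw [mul_add, mul_assoc, F.wt_ep_right h', mul_zero, mul_assoc, ← F.wt_left h', ← mul_assoc, F.wt_ep_right h,
      zero_mul, add_zero]
  conv_rhs => rw [← mul_one (w * v), ← F.sum_one, mul_add, e, zero_add]

theorem wt_corner_left {X : End'} (h : Wt a b w) (hX : e₁ a b * X = X) : w * X = 0 := by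
  rw [← hX, ← mul_assoc, F.wt_ep_right h, zero_mul]

theorem wt_corner_right {X : End'} (h : Wt a b w) (hX : X * e₁ b a = X) : X * w = 0 := by
  rw [← hX, mul_assoc, F.wt_em_left h, mul_zero]

theorem hsq_left (h : Wt a b w) : e₁ a b * hsq w = hsq w := by
  rw [hsq, mul_smul_comm, F.mul_left_corner h h]

theorem hsq_right (h : Wt a b w) : hsq w * e₁ b a = hsq w := by
  rw [hsq, smul_mul_assoc, F.mul_right_corner h h]

theorem wt_add (h : Wt a b w) (h' : Wt a b v) : Wt a b (w + v) := by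
  simp only [Wt, mul_add, add_mul] at *
  rw [← h, ← h']
  conv_lhs => rw [h, h']
  abel

theorem wt_neg (h : Wt a b w) : Wt a b (-w) := by
  simp only [Wt, mul_neg, neg_mul] at *
  rw [← neg_add, h]

omit F in
theorem hsq_add_self : hsq w + hsq w = (2 : k) • hsq w := (two_smul k _).symm

theorem two_hsq : hsq w + hsq w = w * w := by
  rw [hsq, ← two_smul k, smul_smul, mul_inv_cancel₀ F.two_ne, one_smul]

theorem ext_unique {X X' : End'} (h : Wt a b w) (h' : Wt a b v) (hl : e₁ a b * X = X) (hr : X * e₁ b a = X)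
    (hl' : e₁ a b * X' = X') (hr' : X' * e₁ b a = X') (e : w + X = v + X') : w = v ∧ X = X' := by
  have k1 := congrArg (fun s => e₀ a b * s) e
  have k2 := congrArg (fun s => e₁ a b * s * e₀ a b) e
  have z1 : e₀ a b * X = 0 := by rw [← hl, ← mul_assoc, F.op, zero_mul]
  have z2 : e₀ a b * X' = 0 := by rw [← hl', ← mul_assoc, F.op, zero_mul]
  have z3 : X * e₀ a b = 0 := by rw [← hr, mul_assoc, F.mo, mul_zero]
  have z4 : X' * e₀ a b = 0 := by rw [← hr', mul_assoc, F.mo, mul_zero]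
  simp only [mul_add, z1, z2, add_zero] at k1
  simp only [mul_add, add_mul, hl, hl', z3, z4, add_zero] at k2
  have hwv : w = v := by
    rw [← h, ← h', k1, k2]
  exact ⟨hwv, by rwa [hwv, add_left_cancel_iff] at e⟩

theorem mem_flag_of {g : GL'} {c : End'} (hg : g ∈ G) (hv : (g : End') = 1 + c) (h1 : a * c = 0)
    (h2 : c * a = 0) (h3 : e₀ a b * c * e₀ a b = 0) : g ∈ flagOf G a := by
  refine ⟨hg, mem_flag.2 ⟨fun v => ?_, fun v hv' => ?_, fun v hv' => ?_⟩⟩
  · rw [hv, LinearMap.add_apply, Module.End.one_apply, add_sub_cancel_left, LinearMap.mem_ker,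
      ← Module.End.mul_apply, h1]; rfl
  · rw [hv, LinearMap.add_apply, Module.End.one_apply, add_sub_cancel_left]
    have hm : (e₁ b a) v = 0 := by simp [e₁, LinearMap.mem_ker.1 hv']
    have hp' : c ((e₁ a b) v) = 0 := by
      rw [← Module.End.mul_apply, e₁, mul_neg, ← mul_assoc, h2, zero_mul, neg_zero]; rfl
    have hdec : v = (e₁ a b) v + (e₀ a b) v + (e₁ b a) v := by
      simp only [← LinearMap.add_apply, F.sum_one, Module.End.one_apply]
    have hcv : c v = c ((e₀ a b) v) := by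
      conv_lhs => rw [hdec]
      rw [map_add, map_add, hp', hm, map_zero, zero_add, add_zero]
    have hd2 : c ((e₀ a b) v) = (e₁ a b) (c ((e₀ a b) v)) := by
      have e0 : (e₀ a b) (c ((e₀ a b) v)) = 0 := LinearMap.congr_fun h3 v
      have em : (e₁ b a) (c ((e₀ a b) v)) = 0 := by
        rw [← Module.End.mul_apply, e₁, neg_mul, mul_assoc, h1, mul_zero, neg_zero]; rfl
      have := LinearMap.congr_fun F.sum_one (c ((e₀ a b) v))
      simp only [LinearMap.add_apply, e0, em, add_zero, Module.End.one_apply] at this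
      exact this.symm
    rw [hcv, hd2]
    exact ⟨-(b (c ((e₀ a b) v))), by simp [e₁]⟩
  · obtain ⟨m, rfl⟩ := hv'
    rw [hv, LinearMap.add_apply, Module.End.one_apply, ← Module.End.mul_apply, h2]
    simp

/-- The weight one element and its root part. -/
theorem exists_decomp {u : GL'} (hu : u ∈ flagOf G a) :
    ∃ w τ : End', InU G a b w ∧ τ ∈ Rt G a ∧ (u : End') = 1 + w + hsq w + τ := by
  obtain ⟨f1, f2, f3⟩ := mem_flag.1 hu.2
  set c := (u : End') - 1 with hc
  have uc : (u : End') = 1 + c := by rw [hc, add_sub_cancel]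
  have ac : a * c = 0 := LinearMap.ext fun v => LinearMap.mem_ker.1 (f1 v)
  have ca : c * a = 0 := LinearMap.ext fun v => by
    rw [hc, Module.End.mul_apply, LinearMap.sub_apply, Module.End.one_apply, f3 _ ⟨v, rfl⟩, sub_self]; rfl
  have cm : e₁ b a * c = 0 := by rw [e₁, neg_mul, mul_assoc, ac, mul_zero, neg_zero]
  have cp : c * e₁ a b = 0 := by rw [e₁, mul_neg, ← mul_assoc, ca, zero_mul, neg_zero]
  have coo : e₀ a b * c * e₀ a b = 0 := LinearMap.ext fun v => by
    obtain ⟨m, hm⟩ := f2 ((e₀ a b) v) (LinearMap.mem_ker.2 (LinearMap.congr_fun (x_e₀ F.hp) v))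
    rw [Module.End.mul_apply, Module.End.mul_apply]
    change (e₀ a b) (c ((e₀ a b) v)) = 0
    rw [show c ((e₀ a b) v) = a m from hm.symm]
    exact LinearMap.congr_fun (e₀_x F.hp) m
  set x := e₀ a b * c * e₁ b a with hx
  set z := e₁ a b * c * e₀ a b with hz
  set t := e₁ a b * c * e₁ b a with ht
  have cdec : c = x + z + t := by
    calc c = (e₁ a b + e₀ a b + e₁ b a) * c * (e₁ a b + e₀ a b + e₁ b a) := by rw [F.sum_one, one_mul, mul_one]
      _ = x + z + t := by
        simp only [add_mul, mul_add, cm, zero_mul, coo, hx, hz, ht]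
        simp only [mul_assoc, cp, mul_zero]
        abel
  have hwt : Wt a b (x + z) := by
    simp only [Wt, hx, hz, mul_add, add_mul, ← mul_assoc, F.oo, F.op, F.po, F.pp, zero_mul, add_zero, zero_add]
    simp only [mul_assoc, F.mm, F.oo]
  set w := x + z with hw
  have tl : e₁ a b * t = t := by rw [ht, ← mul_assoc, ← mul_assoc, F.pp]
  have tr : t * e₁ b a = t := by rw [ht, mul_assoc, F.mm]
  obtain ⟨s, hsG, hsv⟩ := F.exists_sign
  have sw : (s : End') * w * (s : End') = -w := by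
    have l1 : (s : End') * w = w * e₁ b a - w * e₀ a b := by
      rw [hsv, sub_mul, sub_mul, F.wt_mid hwt, F.wt_left hwt, F.wt_em_left hwt, sub_zero]
    have l2 : e₁ b a * (s : End') = -e₁ b a := by
      rw [hsv, mul_sub, mul_sub, F.mo, F.mp, F.mm, zero_sub, neg_zero, zero_sub]
    have l3 : e₀ a b * (s : End') = e₀ a b := by
      rw [hsv, mul_sub, mul_sub, F.oo, F.op, F.om, sub_zero, sub_zero]
    have l4 : w = w * e₁ b a + w * e₀ a b := by
      conv_lhs => rw [← mul_one w, ← F.sum_one, mul_add, mul_add, F.wt_ep_right hwt, zero_add, add_comm]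
    rw [l1, sub_mul, mul_assoc, l2, mul_assoc, l3, mul_neg]
    conv_rhs => rw [l4]
    abel
  have st : (s : End') * t * (s : End') = t := by
    have l1 : (s : End') * t = -t := by
      have o1 : e₀ a b * t = 0 := orth F.oo tl F.op
      have o2 : e₁ b a * t = 0 := orth F.mm tl F.mp
      rw [hsv, sub_mul, sub_mul, tl, o1, o2]; abel
    have l2 : t * (s : End') = -t := by
      have o1 : t * e₀ a b = 0 := orth tr F.oo F.mo
      have o2 : t * e₁ a b = 0 := orth tr F.pp F.mp
      rw [hsv, mul_sub, mul_sub, tr, o1, o2]; abel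
    rw [l1, neg_mul, l2, neg_neg]
  have ss : (s : End') * (s : End') = 1 := by
    rw [hsv, ← F.sum_one]
    simp only [sub_mul, mul_sub, F.oo, F.op, F.om, F.po, F.pp, F.pm, F.mo, F.mp, F.mm]
    abel
  have gval : ((u * (s * u * s) : GL') : End') = 1 + (t + t - w * w) := by
    have e : (s : End') * (u : End') * (s : End') = 1 - w + t := by
      rw [uc, cdec, mul_add, mul_one, add_mul, ss, mul_add, add_mul, sw, st]; abel
    rw [Units.val_mul, Units.val_mul, Units.val_mul, e, uc, cdec]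
    have e1 : w * t = 0 := F.wt_corner_left hwt tl
    have e2 : t * w = 0 := F.wt_corner_right hwt tr
    have e3 : t * t = 0 := orth tr tl F.mp
    simp only [add_mul, mul_add, mul_sub, one_mul, mul_one, e1, e2, e3]
    abel
  have Xl : e₁ a b * (t + t - w * w) = t + t - w * w := by rw [mul_sub, mul_add, tl, F.mul_left_corner hwt hwt]
  have Xr : (t + t - w * w) * e₁ b a = t + t - w * w := by
    rw [sub_mul, add_mul, tr, F.mul_right_corner hwt hwt]
  have hX := F.mem_Rt_corner Xl Xr (mul_mem hu.1 (mul_mem (mul_mem hsG hu.1) hsG)) gval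
  have hτ : t - hsq w ∈ Rt G a := by
    have e : t - hsq w = (2 : k)⁻¹ • (t + t - w * w) := by
      rw [smul_sub, ← two_smul k t, smul_smul, inv_mul_cancel₀ F.two_ne, one_smul]; rfl
    rw [e]; exact Submodule.smul_mem _ _ hX
  refine ⟨w, t - hsq w, ⟨hwt, ?_⟩, hτ, by rw [uc, cdec]; abel⟩
  obtain ⟨g, hg, hgv⟩ := exists_mem_Rg (neg_mem hτ)
  refine ⟨u * g, mul_mem hu.1 (Rg_le _ hg), ?_⟩
  rw [Units.val_mul, hgv, uc, cdec]
  have nl : e₁ a b * -(t - hsq w) = -(t - hsq w) := F.rt_left (neg_mem hτ)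
  have e1 : w * -(t - hsq w) = 0 := F.wt_corner_left hwt nl
  have e2 : t * -(t - hsq w) = 0 := orth tr nl F.mp
  simp only [add_mul, mul_add, one_mul, mul_one, e1, e2]
  abel

theorem mem_flag_wt (h : Wt a b w) {c : End'} (hl : e₁ a b * c = c) (hr : c * e₁ b a = c) {g : GL'} (hg : g ∈ G)
    (hv : (g : End') = 1 + w + hsq w + c) : g ∈ flagOf G a := by
  have el : e₁ a b * (hsq w + c) = hsq w + c := by rw [mul_add, F.hsq_left h, hl]
  have er : (hsq w + c) * e₁ b a = hsq w + c := by rw [add_mul, F.hsq_right h, hr]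
  refine F.mem_flag_of hg (c := w + (hsq w + c)) (by rw [hv]; abel) ?_ ?_ ?_
  · rw [mul_add, F.a_wt h, ← el, ← mul_assoc, x_e₁ F.hp, zero_mul, add_zero]
  · rw [add_mul, F.wt_a h, ← er, mul_assoc, e₁'_x F.hp, mul_zero, add_zero]
  · rw [mul_add, F.wt_mid h, add_mul, mul_assoc, F.mo, mul_zero, ← el, ← mul_assoc, F.op, zero_mul, zero_mul,
      add_zero]

theorem exists_flag (hw : InU G a b w) {c : End'} (hc : c ∈ Rt G a) :
    ∃ g ∈ flagOf G a, (g : End') = 1 + w + hsq w + c := by
  obtain ⟨hwt, g, hg, hv⟩ := hw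
  obtain ⟨r, hr, hrv⟩ := exists_mem_Rg hc
  refine ⟨g * r, F.mem_flag_wt hwt (F.rt_left hc) (F.rt_right hc) (mul_mem hg (Rg_le _ hr)) ?_, ?_⟩ <;>
  · rw [Units.val_mul, hv, hrv]
    have e1 : w * c = 0 := F.wt_corner_left hwt (F.rt_left hc)
    have e2 : hsq w * c = 0 := orth (F.hsq_right hwt) (F.rt_left hc) F.mp
    simp only [mul_add, add_mul, one_mul, mul_one, e1, e2]
    abel

theorem inU_zero : InU G a b 0 := ⟨by simp [Wt], 1, one_mem _, by simp [hsq]⟩

/-- Additivity and the commutator form of weight one elements. -/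
theorem inU_add_aux (hw : InU G a b w) (hv : InU G a b v) :
    InU G a b (w + v) ∧ w * v - v * w ∈ Rt G a := by
  obtain ⟨g, hg, gv⟩ := F.exists_flag hw (zero_mem _)
  obtain ⟨g', hg', gv'⟩ := F.exists_flag hv (zero_mem _)
  obtain ⟨w', τ, hw', hτ, e⟩ := F.exists_decomp (mul_mem hg hg')
  rw [Units.val_mul, gv, gv', add_zero, add_zero] at e
  have e1 : w * hsq v = 0 := F.wt_corner_left hw.1 (F.hsq_left hv.1)
  have e2 : hsq w * v = 0 := F.wt_corner_right hv.1 (F.hsq_right hw.1)
  have e3 : hsq w * hsq v = 0 := orth (F.hsq_right hw.1) (F.hsq_left hv.1) F.mp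
  simp only [mul_add, add_mul, one_mul, mul_one, e1, e2, e3, add_zero] at e
  have eq : (w + v) + (hsq w + hsq v + w * v) = w' + (hsq w' + τ) := by
    linear_combination (norm := abel_nf) e
  obtain ⟨h1, h2⟩ := F.ext_unique (F.wt_add hw.1 hv.1) hw'.1
    (by rw [mul_add, mul_add, F.hsq_left hw.1, F.hsq_left hv.1, F.mul_left_corner hw.1 hv.1])
    (by rw [add_mul, add_mul, F.hsq_right hw.1, F.hsq_right hv.1, F.mul_right_corner hw.1 hv.1])
    (by rw [mul_add, F.hsq_left hw'.1, F.rt_left hτ])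
    (by rw [add_mul, F.hsq_right hw'.1, F.rt_right hτ]) eq
  refine ⟨h1 ▸ hw', ?_⟩
  rw [← h1] at h2
  have hd : hsq (w + v) = hsq w + hsq v + (2 : k)⁻¹ • (w * v + v * w) := by
    simp only [hsq, mul_add, add_mul, smul_add]; abel
  have hτe : τ = hsq w + hsq v + w * v - hsq (w + v) := by rw [h2]; abel
  have : w * v - v * w = (2 : k) • τ := by
    rw [hτe, hd, show hsq w + hsq v + w * v - (hsq w + hsq v + (2 : k)⁻¹ • (w * v + v * w))
      = w * v - (2 : k)⁻¹ • (w * v + v * w) by abel, smul_sub, smul_smul, mul_inv_cancel₀ F.two_ne, one_smul,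
      two_smul]
    abel
  rw [this]; exact Submodule.smul_mem _ _ hτ

theorem inU_add (hw : InU G a b w) (hv : InU G a b v) : InU G a b (w + v) := (F.inU_add_aux hw hv).1

theorem omega_mem (hw : InU G a b w) (hv : InU G a b v) : w * v - v * w ∈ Rt G a := (F.inU_add_aux hw hv).2

theorem inU_smul (hw : InU G a b w) (r : k) : InU G a b (r • w) := by
  rw [← ZMod.natCast_zmod_val r, Nat.cast_smul_eq_nsmul]
  induction r.val with
  | zero => rw [zero_nsmul]; exact F.inU_zero
  | succ n ih => rw [succ_nsmul]; exact F.inU_add ih hw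

theorem inU_neg (hw : InU G a b w) : InU G a b (-w) := by
  simpa using F.inU_smul hw (-1)

theorem inU_sub (hw : InU G a b w) (hv : InU G a b v) : InU G a b (w - v) := by
  rw [sub_eq_add_neg]; exact F.inU_add hw (F.inU_neg hv)

/-! ### The Levi subgroup -/

theorem levi_e₀ {l : GL'} (hl : l ∈ Levi G a b) : Commute (l : End') (e₀ a b) := by
  have : e₀ a b = 1 - e₁ a b - e₁ b a := by simp [e₀, e₁]
  rw [this]
  exact ((Commute.one_right _).sub_right hl.2.1).sub_right hl.2.2

theorem levi_inU {l : GL'} (hl : l ∈ Levi G a b) (hw : InU G a b w) : InU G a b (cj l w) := by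
  obtain ⟨hwt, g, hg, hv⟩ := hw
  have fix : ∀ {e : End'}, Commute (l : End') e → cj l e = e := fun {e} h => by
    rw [cj_apply, h.eq, mul_assoc, ← Units.val_mul, mul_inv_cancel, Units.val_one, mul_one]
  refine ⟨?_, l * g * l⁻¹, mul_mem (mul_mem hl.1 hg) (inv_mem hl.1), ?_⟩
  · rw [Wt, ← fix (F.levi_e₀ hl), ← fix hl.2.1, ← fix hl.2.2, ← cj_mul, ← cj_mul, ← cj_mul, ← cj_mul, ← map_add]
    exact congrArg (cj l) hwt
  · rw [Units.val_mul, Units.val_mul, hv, hsq, hsq, ← cj_mul, ← map_smul, cj_apply, cj_apply]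
    simp only [mul_add, add_mul, mul_one, ← Units.val_mul, mul_inv_cancel, Units.val_one, mul_smul_comm,
      smul_mul_assoc]

theorem levi_rt {l : GL'} (hl : l ∈ Levi G a b) {c : End'} (hc : c ∈ Rt G a) : cj l c ∈ Rt G a := by
  obtain ⟨g, hg, hv⟩ := exists_mem_Rg hc
  have hp' : (e₁ a b) * cj l c = cj l c := by
    conv_rhs => rw [← F.rt_left hc]
    rw [cj_apply, cj_apply, ← mul_assoc, ← mul_assoc, ← mul_assoc, hl.2.1.eq]
  have hm' : cj l c * e₁ b a = cj l c := by
    conv_rhs => rw [← F.rt_right hc]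
    rw [cj_apply, cj_apply, mul_assoc, hl.2.2.units_inv_left.eq, ← mul_assoc, ← mul_assoc]
  refine F.mem_Rt_corner hp' hm' (mul_mem (mul_mem hl.1 (Rg_le _ hg)) (inv_mem hl.1)) ?_
  rw [Units.val_mul, Units.val_mul, hv, mul_add, mul_one, add_mul, ← Units.val_mul, mul_inv_cancel, Units.val_one]
  rfl

theorem levi_symm {l : GL'} (hl : l ∈ Levi G a b) : l ∈ Levi G b a := ⟨hl.1, hl.2.2, hl.2.1⟩

end Frame

end Cfsg.Agent.RootParabolic
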