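import Cfsg.Agent.Lib.Local.RootParabolic.Element

/-!
The corner of a frame as a module for the Levi subgroup.
-/

set_option autoImplicit false
set_option linter.unusedSectionVars false
set_option linter.unusedVariables false
set_option linter.unusedSimpArgs false

namespace Cfsg.Agent.RootParabolic

open Cfsg Cfsg.Agent.Lead.QP Cfsg.Agent.EquivQuad

variable {p : ℕ} [Fact p.Prime] {M : Type} [AddCommGroup M] [Module (ZMod p) M] [Module.Finite (ZMod p) M]

local notation "k" => ZMod p
local notation "End'" => Module.End k M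
local notation "GL'" => LinearMap.GeneralLinearGroup k M

/-- A submodule stable under all elements of a subgroup. -/
def Stable (H : Subgroup GL') (W : Submodule k M) : Prop := ∀ g ∈ H, ∀ v ∈ W, (g : End') v ∈ W

/-- The elements mapping a submodule onto itself. -/
def setStab (W : Submodule k M) : Subgroup GL' where
  carrier := {g | W.map (g : End') = W}
  one_mem' := Submodule.map_id W
  mul_mem' := fun {g h} (hg : W.map (g : End') = W) (hh : W.map (h : End') = W) => by
    change W.map ((g : End') * (h : End')) = W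
    rw [Module.End.mul_eq_comp, Submodule.map_comp, hh, hg]
  inv_mem' := fun {g} (hg : W.map (g : End') = W) => by
    change W.map ((g⁻¹ : GL') : End') = W
    conv_lhs => rw [← hg]
    rw [← Submodule.map_comp, ← Module.End.mul_eq_comp, ← Units.val_mul, inv_mul_cancel]
    exact Submodule.map_id W

theorem units_injective (g : GL') : Function.Injective (g : End') := fun v w e => by
  simpa [← Module.End.mul_apply] using congrArg ((g⁻¹ : GL') : End') e

theorem setStab_of_le {W : Submodule k M} {g : GL'} (h : ∀ v ∈ W, (g : End') v ∈ W) : g ∈ setStab W := by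
  refine Submodule.eq_of_le_of_finrank_eq (Submodule.map_le_iff_le_comap.2 h) ?_
  exact (Submodule.equivMapOfInjective _ (units_injective g) W).finrank_eq.symm

theorem stable_of_setStab {W : Submodule k M} {g : GL'} (hg : g ∈ setStab W) {v : M} (hv : v ∈ W) :
    (g : End') v ∈ W := by
  have := Submodule.mem_map_of_mem (f := (g : End')) hv
  rwa [show W.map (g : End') = W from hg] at this

variable {G : Subgroup (LinearMap.GeneralLinearGroup (ZMod p) M)} {d : ℕ} {a b : Module.End (ZMod p) M}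

namespace Frame

variable (F : Frame G d a b)
include F

/-- The group is generated by the unipotent group of one root and the opposite root group. -/
theorem gen_le {H : Subgroup GL'} (hU : flagOf G a ≤ H) (hB : Rg G b ≤ H) : G ≤ H := by
  have hn : G ≤ Subgroup.normalizer (G : Set GL') := Subgroup.le_normalizer
  have hRa : Rg G a ≤ flagOf G a := fun r hr => by
    refine F.mem_flag_wt F.inU_zero.1 (F.rt_left (mem_Rg.1 hr)) (F.rt_right (mem_Rg.1 hr)) (Rg_le _ hr) ?_
    simp [hsq]
  let sw : GL' := swap F.hp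
  have hsw : sw ∈ H ⊓ G := swap_mem F.hp
    ⟨hU (hRa (by rw [mem_Rg]; simpa using F.ha.self_mem)), F.ha.mem.u1_mem _⟩
    ⟨hB (by rw [mem_Rg]; simpa using F.hb.self_mem), F.hb.mem.u1_mem _⟩
  have main : ∀ c, Con G d a c → ∃ g ∈ H ⊓ G, Rt G c = Rt G (cj g a) := by
    intro c hc
    induction hc with
    | refl => exact ⟨1, one_mem _, by rw [cj_one]⟩
    | @tail c c' hcc hstep ih =>
      obtain ⟨g, hg, he⟩ := ih
      obtain ⟨qc, qc', ho⟩ := hstep
      have qg : Qd G d (cj g a) := F.ha.cj (hn hg.2)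
      have ho' : Opp (cj g a) c' := ho.of_mem F.hs qc qc' (he ▸ qg.self_mem) qc'.self_mem qg.ne qc'.ne
      have ho'' : Opp a (cj g⁻¹ c') := by have := opp_cj ho' g⁻¹; rwa [cj_inv] at this
      have q'' : Qd G d (cj g⁻¹ c') := qc'.cj (hn (inv_mem hg.2))
      obtain ⟨y, hy, qy, -, e, e'⟩ := F.hs.inverse F.ha q'' ho''
      obtain ⟨u, hu, hue⟩ := inverse_transitive F.hs.h2 F.h3 F.ha F.hb qy F.hp ⟨F.ha.sq, qy.sq, e, e'⟩
      refine ⟨g * u * sw, mul_mem (mul_mem hg ⟨hU hu, hu.1⟩) hsw, ?_⟩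
      rw [← cj_comp, swap_cj_self, ← cj_comp, hue]
      have h1 := cj_mem_Rt q''.sq hy (hn hg.2)
      rw [cj_comp, mul_inv_cancel, cj_one] at h1
      exact (Rt_eq_of_mem F.hs qc' h1 ((qy.cj (hn hg.2)).ne)).symm
  conv_lhs => rw [← F.hgen]
  refine GP_le fun c hc => ?_
  obtain ⟨g, hg, he⟩ := main c hc
  rw [Rg_congr he, ← conjBy_Rg F.ha.sq (hn hg.2)]
  rintro _ ⟨x, hx, rfl⟩
  exact mul_mem (mul_mem hg.1 (hU (hRa hx))) (inv_mem hg.1)

theorem Rg_a_le : Rg G a ≤ flagOf G a := fun r hr => by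
  refine F.mem_flag_wt F.inU_zero.1 (F.rt_left (mem_Rg.1 hr)) (F.rt_right (mem_Rg.1 hr)) (Rg_le _ hr) ?_
  simp [hsq]

theorem inv_triple {w c b' : End'} (hb' : b' ∈ Rt G b) (h1 : Inv a b (hsq w + c)) (h2 : Inv a b (hsq w - c))
    (h : (hsq w + c) * b' * (hsq w - c) = 0) : b' = 0 := by
  obtain ⟨S, -, -, -, hS⟩ := h1
  obtain ⟨S', -, -, hS', -⟩ := h2
  have h' := congrArg (fun s => S * s * S') h
  simp only [mul_zero, zero_mul] at h'
  rw [← h']
  calc b' = (-e₁ b a) * b' * (-e₁ a b) := by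
        rw [neg_mul, neg_mul_neg, F.rb_left hb', F.rb_right hb']
    _ = S * ((hsq w + c) * b' * (hsq w - c)) * S' := by rw [← hS, ← hS']; simp only [mul_assoc]

/-- For one of the three shifts 0, ±a there is a Levi element. -/
theorem shift_cases {w b' : End'} (hw : InU G a b w) (hb' : b' ∈ Rt G b) (hb0 : b' ≠ 0) :
    (Inv a b (hsq w) ∧ ∃ l ∈ Levi G a b, ((l⁻¹ : GL') : End') * e₁ a b = hsq w * b') ∨
    (hsq w * b' * hsq w = 0 ∧ Inv a b (hsq w + a) ∧ Inv a b (hsq w - a) ∧
      ∀ c, (c = a ∨ c = -a) → ∃ l ∈ Levi G a b, ((l⁻¹ : GL') : End') * e₁ a b = (hsq w + c) * b') := by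
  rcases F.shift_dichotomy hw (zero_mem _) hb' hb0 with ⟨h1, -, l, hl, e, -⟩ | h0
  · rw [add_zero] at h1 e
    exact Or.inl ⟨h1, l, hl, e⟩
  rw [add_zero, sub_zero] at h0
  refine Or.inr ⟨h0, ?_⟩
  have noboth : ¬ ((hsq w + a) * b' * (hsq w - a) = 0 ∧ (hsq w - a) * b' * (hsq w + a) = 0) := by
    rintro ⟨h1, h2⟩
    have e : (hsq w + a) * b' * (hsq w - a) + (hsq w - a) * b' * (hsq w + a) =
        (hsq w * b' * hsq w + hsq w * b' * hsq w) - (a * b' * a + a * b' * a) := by noncomm_ring
    rw [h1, h2, h0, add_zero, zero_sub, eq_comm, neg_eq_zero, ← two_smul k] at e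
    have haba := (smul_eq_zero.1 e).resolve_left F.two_ne
    have h' := congrArg (fun s => b * s * b) haba
    simp only [mul_zero, zero_mul] at h'
    have : b * (a * b' * a) * b = b' := by
      calc b * (a * b' * a) * b = (b * a) * b' * (a * b) := by simp only [mul_assoc]
        _ = b' := by rw [F.ab, F.ba, neg_mul, F.rb_left hb', neg_mul_neg, F.rb_right hb']
    exact hb0 (this ▸ h')
  have hna : -a ∈ Rt G a := neg_mem F.ha.self_mem
  rcases F.shift_dichotomy hw F.ha.self_mem hb' hb0 with ⟨p1, p2, l, hl, e, -⟩ | p0 <;>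
    rcases F.shift_dichotomy hw hna hb' hb0 with ⟨q1, q2, l', hl', e', -⟩ | q0
  · refine ⟨p1, p2, fun c hc => ?_⟩
    rcases hc with rfl | rfl
    · exact ⟨l, hl, e⟩
    · exact ⟨l', hl', e'⟩
  · rw [sub_neg_eq_add, ← sub_eq_add_neg] at q0
    exact absurd (F.inv_triple (c := -a) hb' (by rwa [← sub_eq_add_neg]) (by rwa [sub_neg_eq_add])
      (by rwa [← sub_eq_add_neg, sub_neg_eq_add])) hb0
  · rw [← sub_eq_add_neg] at q1
    rw [sub_neg_eq_add] at q2
    exact absurd (F.inv_triple hb' q2 q1 p0) hb0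
  · rw [sub_neg_eq_add, ← sub_eq_add_neg] at q0
    exact absurd ⟨p0, q0⟩ noboth

variable {N : Submodule (ZMod p) M}

theorem corner_fix (hle : N ≤ LinearMap.range (e₁ a b)) {n : M} (hn : n ∈ N) : (e₁ a b) n = n := by
  obtain ⟨m, rfl⟩ := hle hn
  exact LinearMap.congr_fun F.pp m

theorem mem_hsq (hle : N ≤ LinearMap.range (e₁ a b)) (hst : Stable (Levi G a b) N) {w b' : End'}
    (hw : InU G a b w) (hb' : b' ∈ Rt G b) {n : M} (hn : n ∈ N) : (hsq w * b') n ∈ N := by
  by_cases hb0 : b' = 0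
  · rw [hb0, mul_zero]; exact zero_mem N
  have fix := F.corner_fix hle hn
  have go : ∀ {T : End'}, (∃ l ∈ Levi G a b, ((l⁻¹ : GL') : End') * e₁ a b = T) → T n ∈ N := by
    rintro T ⟨l, hl, rfl⟩
    rw [Module.End.mul_apply, fix]
    exact hst _ (inv_mem hl) _ hn
  rcases F.shift_cases hw hb' hb0 with ⟨-, h⟩ | ⟨-, -, -, h⟩
  · exact go h
  · have h1 := add_mem (go (h a (Or.inl rfl))) (go (h (-a) (Or.inr rfl)))
    rw [← LinearMap.add_apply, show (hsq w + a) * b' + (hsq w + -a) * b' = hsq w * b' + hsq w * b' by noncomm_ring,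
      ← two_smul k, LinearMap.smul_apply] at h1
    have := Submodule.smul_mem N (2 : k)⁻¹ h1
    rwa [smul_smul, inv_mul_cancel₀ F.two_ne, one_smul] at this

theorem mem_root (hle : N ≤ LinearMap.range (e₁ a b)) (hst : Stable (Levi G a b) N) {c b' : End'}
    (hc : c ∈ Rt G a) (hb' : b' ∈ Rt G b) {n : M} (hn : n ∈ N) : (c * b') n ∈ N := by
  by_cases hb0 : b' = 0
  · rw [hb0, mul_zero]; exact zero_mem N
  by_cases hc0 : c = 0
  · rw [hc0, zero_mul]; exact zero_mem N
  rcases F.shift_dichotomy F.inU_zero hc hb' hb0 with ⟨-, -, l, hl, e, -⟩ | h0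
  · have h1 := hst _ (inv_mem hl) _ hn
    rw [← F.corner_fix hle hn, ← Module.End.mul_apply, e] at h1
    simpa [hsq] using h1
  · exfalso
    simp only [hsq, mul_zero, smul_zero, zero_add, zero_sub, mul_neg, neg_eq_zero] at h0
    obtain ⟨y, hy, qc, qy, hpair, ecy, eyc⟩ := F.rt_inverse hc hc0
    have h' := congrArg (fun s => y * s * y) h0
    simp only [mul_zero, zero_mul] at h'
    have : y * (c * b' * c) * y = b' := by
      calc y * (c * b' * c) * y = (y * c) * b' * (c * y) := by simp only [mul_assoc]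
        _ = b' := by rw [eyc, ecy, neg_mul, F.rb_left hb', neg_mul_neg, F.rb_right hb']
    exact hb0 (this ▸ h')

theorem mem_prod (hle : N ≤ LinearMap.range (e₁ a b)) (hst : Stable (Levi G a b) N) {w v b' : End'}
    (hw : InU G a b w) (hv : InU G a b v) (hb' : b' ∈ Rt G b) {n : M} (hn : n ∈ N) : (w * v * b') n ∈ N := by
  have h1 := F.mem_hsq hle hst (F.inU_add hw hv) hb' hn
  have h2 := F.mem_hsq hle hst hw hb' hn
  have h3 := F.mem_hsq hle hst hv hb' hn
  have h4 := F.mem_root hle hst (F.omega_mem hw hv) hb' hn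
  have e : w * v * b' = hsq (w + v) * b' - hsq w * b' - hsq v * b' + (2 : k)⁻¹ • ((w * v - v * w) * b') := by
    have : (2 : k)⁻¹ • (w * v * b') + (2 : k)⁻¹ • (w * v * b') = w * v * b' := by
      rw [← two_smul k, smul_smul, mul_inv_cancel₀ F.two_ne, one_smul]
    conv_lhs => rw [← this]
    simp only [hsq, mul_add, add_mul, sub_mul, smul_add, smul_sub, smul_mul_assoc]
    abel
  rw [e, LinearMap.add_apply, LinearMap.sub_apply, LinearMap.sub_apply, LinearMap.smul_apply]
  exact add_mem (sub_mem (sub_mem h1 h2) h3) (Submodule.smul_mem _ _ h4)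

/-- The submodule generated by a Levi stable subspace of the corner meets the corner in it. -/
theorem span_inter (hle : N ≤ LinearMap.range (e₁ a b)) (hst : Stable (Levi G a b) N) :
    ∃ W : Submodule k M, Stable G W ∧ N ≤ W ∧ W ⊓ LinearMap.range (e₁ a b) ≤ N := by
  let T : Set M := {m | ∃ β ∈ Rt G b, ∃ n ∈ N, m = β n ∨ ∃ v, InU G a b v ∧ m = (v * β) n}
  let W : Submodule k M := N ⊔ Submodule.span k T
  have hN : N ≤ W := le_sup_left
  have hT : ∀ {m}, m ∈ T → m ∈ W := fun h => Submodule.mem_sup_right (Submodule.subset_span h)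
  have fix : ∀ {n}, n ∈ N → (e₁ a b) n = n := fun hn => F.corner_fix hle hn
  have stab : ∀ g : GL', (∀ n ∈ N, (g : End') n ∈ W) → (∀ m ∈ T, (g : End') m ∈ W) → g ∈ setStab W := by
    intro g h1 h2
    refine setStab_of_le fun v hv => ?_
    have : W ≤ W.comap (g : End') := sup_le h1 (Submodule.span_le.2 h2)
    exact this hv
  have hU : flagOf G a ≤ setStab W := fun u hu => by
    obtain ⟨w, τ, hw, hτ, e⟩ := F.exists_decomp hu
    have z0 : ∀ {X : End'}, X * e₁ a b = 0 → ∀ {n}, n ∈ N → X n = 0 := fun {X} hX {n} hn => by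
      rw [← fix hn, ← Module.End.mul_apply, hX]; rfl
    have hs0 : hsq w * e₁ a b = 0 := by rw [← F.hsq_right hw.1, mul_assoc, F.mp, mul_zero]
    have ht0 : τ * e₁ a b = 0 := by rw [← F.rt_right hτ, mul_assoc, F.mp, mul_zero]
    refine stab u (fun n hn => ?_) ?_
    · rw [e]
      simp only [LinearMap.add_apply, Module.End.one_apply, z0 (F.wt_ep_right hw.1) hn, z0 hs0 hn, z0 ht0 hn,
        add_zero]
      exact hN hn
    · rintro m ⟨β, hβ, n, hn, rfl | ⟨v, hv, rfl⟩⟩ <;> rw [e] <;>
        simp only [LinearMap.add_apply, Module.End.one_apply]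
      · refine add_mem (add_mem (add_mem (hT ⟨β, hβ, n, hn, Or.inl rfl⟩) ?_) (hN ?_)) (hN ?_)
        · exact hT ⟨β, hβ, n, hn, Or.inr ⟨w, hw, rfl⟩⟩
        · exact F.mem_hsq hle hst hw hβ hn
        · exact F.mem_root hle hst hτ hβ hn
      · refine add_mem (add_mem (add_mem (hT ⟨β, hβ, n, hn, Or.inr ⟨v, hv, rfl⟩⟩) ?_) ?_) ?_
        · rw [← Module.End.mul_apply, ← mul_assoc]
          exact hN (F.mem_prod hle hst hw hv hβ hn)
        · rw [← Module.End.mul_apply, ← mul_assoc, F.wt_corner_right hv.1 (F.hsq_right hw.1), zero_mul]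
          exact zero_mem W
        · rw [← Module.End.mul_apply, ← mul_assoc, F.wt_corner_right hv.1 (F.rt_right hτ), zero_mul]
          exact zero_mem W
  have hB : Rg G b ≤ setStab W := fun g hg => by
    have hβ := mem_Rg.1 hg
    have gv : (g : End') = 1 + ((g : End') - 1) := (add_sub_cancel _ _).symm
    refine stab g (fun n hn => ?_) ?_
    · rw [gv]
      exact add_mem (hN hn) (hT ⟨_, hβ, n, hn, Or.inl rfl⟩)
    · rintro m ⟨β, hβ', n, hn, rfl | ⟨v, hv, rfl⟩⟩ <;> rw [gv] <;>
        simp only [LinearMap.add_apply, Module.End.one_apply]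
      · refine add_mem (hT ⟨β, hβ', n, hn, Or.inl rfl⟩) ?_
        rw [← Module.End.mul_apply, Rt_mul hβ hβ']
        exact zero_mem W
      · refine add_mem (hT ⟨β, hβ', n, hn, Or.inr ⟨v, hv, rfl⟩⟩) ?_
        rw [← Module.End.mul_apply, ← mul_assoc, F.mid_zero hv.1 (F.rb_right hβ) (F.rb_left hβ')]
        exact zero_mem W
  refine ⟨W, fun g hg v hv => stable_of_setStab (F.gen_le hU hB hg) hv, hN, ?_⟩
  rintro v ⟨hv, m, rfl⟩
  have : W ≤ N.comap (e₁ a b) := by
    refine sup_le (fun n hn => ?_) (Submodule.span_le.2 ?_)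
    · rw [Submodule.mem_comap, fix hn]; exact hn
    · rintro m' ⟨β, hβ, n, hn, rfl | ⟨v', hv', rfl⟩⟩ <;>
        rw [SetLike.mem_coe, Submodule.mem_comap, ← Module.End.mul_apply]
      · rw [← F.rb_left hβ, ← mul_assoc, F.pm, zero_mul]; exact zero_mem N
      · rw [← mul_assoc, F.wt_left hv'.1, mul_assoc, ← F.rb_left hβ, ← mul_assoc (e₀ a b), F.om, zero_mul, mul_zero]
        exact zero_mem N
  have h := this hv
  rw [Submodule.mem_comap, ← Module.End.mul_apply, F.pp] at h
  exact h

/-- A stable submodule is stable under the attached endomorphisms. -/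
theorem stable_end {W : Submodule k M} (hW : Stable G W) {g : GL'} (hg : g ∈ G) {v : M} (hv : v ∈ W) :
    ((g : End') - 1) v ∈ W := sub_mem (hW g hg v hv) hv

theorem stable_rt {W : Submodule k M} (hW : Stable G W) {c : End'} {x : End'} (hc : c ∈ Rt G x) {v : M}
    (hv : v ∈ W) : c v ∈ W := by
  obtain ⟨g, hg, e⟩ := exists_mem_Rg hc
  have := F.stable_end hW (Rg_le _ hg) hv
  rwa [e, add_sub_cancel_left] at this

theorem stable_ep {W : Submodule k M} (hW : Stable G W) {v : M} (hv : v ∈ W) : (e₁ a b) v ∈ W :=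
  neg_mem (F.stable_rt hW F.ha.self_mem (F.stable_rt hW F.hb.self_mem hv))

theorem stable_e₀ {W : Submodule k M} (hW : Stable G W) {v : M} (hv : v ∈ W) : (e₀ a b) v ∈ W :=
  add_mem (add_mem hv (F.stable_rt hW F.ha.self_mem (F.stable_rt hW F.hb.self_mem hv)))
    (F.stable_rt hW F.hb.self_mem (F.stable_rt hW F.ha.self_mem hv))

theorem stable_wt {W : Submodule k M} (hW : Stable G W) {w : End'} (hw : InU G a b w) {v : M} (hv : v ∈ W) :
    w v ∈ W := by
  obtain ⟨hwt, g, hg, e⟩ := hw
  have hX : ∀ {u}, u ∈ W → (w + hsq w) u ∈ W := fun {u} hu => by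
    have := F.stable_end hW hg hu
    rwa [e, add_assoc, add_sub_cancel_left] at this
  have hdec : w = e₀ a b * (w + hsq w) + e₁ a b * ((w + hsq w) * e₀ a b) := by
    rw [mul_add, F.wt_mid hwt, add_mul, mul_add, ← mul_assoc, F.wt_left hwt, mul_assoc, F.oo,
      ← F.hsq_left hwt, ← mul_assoc (e₀ a b), F.op, zero_mul, F.hsq_left hwt, ← F.hsq_right hwt,
      mul_assoc (hsq w), F.mo, mul_zero, mul_zero, add_zero, add_zero]
    conv_lhs => rw [← mul_one w, ← F.sum_one, mul_add, mul_add, F.wt_ep_right hwt, zero_add, add_comm]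
  rw [hdec]
  exact add_mem (F.stable_e₀ hW (hX hv)) (F.stable_ep hW (hX (F.stable_e₀ hW hv)))

/-- A Levi stable subspace meeting every submodule that meets the corner fills the corner. -/
theorem corner_full (hle : N ≤ LinearMap.range (e₁ a b)) (hst : Stable (Levi G a b) N)
    (h : ∀ W' : Submodule k M, Stable G W' → W' ⊓ LinearMap.range (e₁ a b) ≠ ⊥ → W' ⊓ N ≠ ⊥) :
    N = LinearMap.range (e₁ a b) := by
  obtain ⟨W, hW, hNW, hWN⟩ := F.span_inter hle hst
  obtain ⟨W', hW', hc⟩ := F.hss W hW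
  have hbot : W' ⊓ LinearMap.range (e₁ a b) = ⊥ := by
    by_contra hne
    refine h W' hW' hne (le_bot_iff.1 ?_)
    rw [← hc.inf_eq_bot, inf_comm W W']
    exact inf_le_inf le_rfl hNW
  refine le_antisymm hle ?_
  rintro _ ⟨m, rfl⟩
  obtain ⟨w, hw, w', hw', e⟩ := Submodule.mem_sup.1 (hc.sup_eq_top.ge (Submodule.mem_top (x := m)))
  have h0 : (e₁ a b) w' = 0 := (Submodule.mem_bot k).1 (hbot.le ⟨F.stable_ep hW' hw', ⟨w', rfl⟩⟩)
  rw [← e, map_add, h0, add_zero]
  exact hWN ⟨F.stable_ep hW hw, ⟨w, rfl⟩⟩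

/-- An endomorphism that kills the corners and the fixed points vanishes. -/
theorem eq_zero_of_kills {X : End'} (h1 : X * e₁ a b = 0) (h2 : X * b = 0)
    (h3 : ∀ v β : End', InU G a b v → β ∈ Rt G b → X * v * β = 0) (h2' : ∀ β ∈ Rt G b, X * β = 0)
    (hfix : ∀ m, (∀ g ∈ G, (g : End') m = m) → X m = 0) : X = 0 := by
  let N : Submodule k M := LinearMap.range (e₁ a b)
  have hst : Stable (Levi G a b) N := fun l hl v hv => by
    obtain ⟨m, rfl⟩ := hv
    exact ⟨(l : End') m, by rw [← Module.End.mul_apply, ← hl.2.1.eq]; rfl⟩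
  let W0 : Submodule k M := LinearMap.ker X
  -- the submodule generated by the corner lies in the kernel
  let T : Set M := {m | ∃ β ∈ Rt G b, ∃ n ∈ N, m = β n ∨ ∃ v, InU G a b v ∧ m = (v * β) n}
  obtain ⟨W, hW, hNW, -⟩ := F.span_inter (le_refl N) hst
  let W1 : Submodule k M := N ⊔ Submodule.span k T
  have hW1 : W1 ≤ W0 := by
    refine sup_le ?_ (Submodule.span_le.2 ?_)
    · rintro _ ⟨m, rfl⟩
      exact LinearMap.congr_fun h1 m
    · rintro m ⟨β, hβ, n, hn, rfl | ⟨v, hv, rfl⟩⟩
      · exact LinearMap.congr_fun (h2' β hβ) n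
      · change X ((v * β) n) = 0
        rw [← Module.End.mul_apply, ← mul_assoc, h3 v β hv hβ]; rfl
  have hst1 : Stable G W1 := by
    have hN1 : N ≤ W1 := le_sup_left
    have key : ∀ g : GL', (∀ n ∈ N, (g : End') n ∈ W1) → (∀ m ∈ T, (g : End') m ∈ W1) → g ∈ setStab W1 :=
      fun g k1 k2 => setStab_of_le fun v hv =>
        (sup_le k1 (Submodule.span_le.2 k2) : W1 ≤ W1.comap (g : End')) hv
    have hT : ∀ {m}, m ∈ T → m ∈ W1 := fun h => Submodule.mem_sup_right (Submodule.subset_span h)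
    have fixN : ∀ {n}, n ∈ N → (e₁ a b) n = n := fun hn => F.corner_fix le_rfl hn
    have inN : ∀ {Y : End'}, e₁ a b * Y = Y → ∀ n, Y n ∈ W1 := fun {Y} hY n => hN1 ⟨Y n, LinearMap.congr_fun hY n⟩
    have hU : flagOf G a ≤ setStab W1 := fun u hu => by
      obtain ⟨w, τ, hw, hτ, e⟩ := F.exists_decomp hu
      have el : e₁ a b * (hsq w + τ) = hsq w + τ := by rw [mul_add, F.hsq_left hw.1, F.rt_left hτ]
      refine key u (fun n hn => ?_) ?_
      · rw [e, add_assoc, LinearMap.add_apply, LinearMap.add_apply, Module.End.one_apply]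
        refine add_mem (add_mem (hN1 hn) ?_) (inN el n)
        rw [← fixN hn, ← Module.End.mul_apply, F.wt_ep_right hw.1]
        exact zero_mem W1
      · rintro m hm
        rw [e, add_assoc, LinearMap.add_apply, LinearMap.add_apply, Module.End.one_apply]
        refine add_mem (add_mem (hT hm) ?_) (inN el m)
        obtain ⟨β, hβ, n, hn, rfl | ⟨v, hv, rfl⟩⟩ := hm
        · exact hT ⟨β, hβ, n, hn, Or.inr ⟨w, hw, rfl⟩⟩
        · rw [← Module.End.mul_apply, ← mul_assoc]
          refine inN ?_ n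
          rw [← mul_assoc, F.mul_left_corner hw.1 hv.1]
    have hB : Rg G b ≤ setStab W1 := fun g hg => by
      have hβ := mem_Rg.1 hg
      have gv : (g : End') = 1 + ((g : End') - 1) := (add_sub_cancel _ _).symm
      refine key g (fun n hn => ?_) ?_
      · rw [gv]; exact add_mem (hN1 hn) (hT ⟨_, hβ, n, hn, Or.inl rfl⟩)
      · intro m hm
        rw [gv]
        refine add_mem (hT hm) ?_
        obtain ⟨β, hβ', n, hn, rfl | ⟨v, hv, rfl⟩⟩ := hm
        · rw [← Module.End.mul_apply, Rt_mul hβ hβ']; exact zero_mem W1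
        · rw [← Module.End.mul_apply, ← mul_assoc, F.mid_zero hv.1 (F.rb_right hβ) (F.rb_left hβ')]
          exact zero_mem W1
    exact fun g hg v hv => stable_of_setStab (F.gen_le hU hB hg) hv
  obtain ⟨W', hW', hc⟩ := F.hss W1 hst1
  -- the complement is fixed
  have ha0 : ∀ v ∈ W', a v = 0 := fun v hv => by
    have h1' : a v ∈ W1 := (le_sup_left : N ≤ W1) ⟨a v, LinearMap.congr_fun F.a_left v⟩
    exact (Submodule.mem_bot k).1 (hc.inf_eq_bot.le ⟨h1', F.stable_rt hW' F.ha.self_mem hv⟩)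
  have hfixW : ∀ v ∈ W', ∀ g ∈ G, (g : End') v = v := by
    let H : Subgroup GL' := { carrier := {g | ∀ v ∈ W', (g : End') v = v}
                              one_mem' := fun v _ => rfl
                              mul_mem' := fun {g h} hg hh v hv => by
                                rw [Units.val_mul, Module.End.mul_apply, hh v hv, hg v hv]
                              inv_mem' := fun {g} hg v hv => by
                                conv_lhs => rw [← hg v hv]
                                rw [← Module.End.mul_apply, ← Units.val_mul, inv_mul_cancel]; rfl }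
    have hle : G ≤ H := by
      conv_lhs => rw [← F.hgen]
      refine GP_le fun c hc' x hx v hv => ?_
      obtain ⟨g, hg, hge⟩ := con_conj F.hs F.ha hc'
      have hgG : g ∈ G := GP_le_self _ hg
      have qc := hc'.qd F.ha
      have hn := (Subgroup.le_normalizer : G ≤ Subgroup.normalizer (G : Set GL'))
      rw [conjBy_Rg F.ha.sq (hn hgG)] at hge
      have hxv := mem_Rg.1 (hge ▸ hx)
      have hker := Rt_ker hxv
      have : v ∈ LinearMap.ker (cj g a) := by
        rw [ker_cj, Submodule.mem_comap, LinearMap.mem_ker]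
        exact ha0 _ (hW' _ (inv_mem hgG) _ hv)
      have h0 := LinearMap.mem_ker.1 (hker this)
      rwa [LinearMap.sub_apply, Module.End.one_apply, sub_eq_zero] at h0
    exact fun v hv g hg => hle hg v hv
  refine LinearMap.ext fun m => ?_
  obtain ⟨w, hw, w', hw', e⟩ := Submodule.mem_sup.1 (hc.sup_eq_top.ge (Submodule.mem_top (x := m)))
  rw [← e, map_add, LinearMap.mem_ker.1 (hW1 hw), hfix w' (hfixW w' hw'), add_zero]
  rfl

/-- A fixed vector in the image of a weight one element vanishes. -/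
theorem fixed_image_zero {w : End'} (hw : InU G a b w) {m : M} (hfix : ∀ g ∈ G, (g : End') (w m) = w m) :
    w m = 0 := by
  let C : Submodule k M := ⨅ g : G, LinearMap.eqLocus ((g : GL') : End') LinearMap.id
  have memC : ∀ {v}, v ∈ C ↔ ∀ g ∈ G, (g : End') v = v := by
    intro v
    simp only [C, Submodule.mem_iInf, LinearMap.mem_eqLocus, LinearMap.id_apply, Subtype.forall]
  have hC : Stable G C := fun g hg v hv => by rw [memC.1 hv g hg]; exact hv
  obtain ⟨W', hW', hc⟩ := F.hss C hC
  obtain ⟨c, hc', w', hw', e⟩ := Submodule.mem_sup.1 (hc.sup_eq_top.ge (Submodule.mem_top (x := m)))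
  have hwc : w c = 0 := by
    obtain ⟨hwt, g, hg, ev⟩ := hw
    have h0 : (w + hsq w) c = 0 := by
      have := memC.1 hc' g hg
      rw [ev, add_assoc, LinearMap.add_apply, Module.End.one_apply, add_eq_left] at this
      exact this
    have hac : a c = 0 := by
      have := memC.1 hc' _ (F.ha.mem.u1_mem F.ha.sq)
      rw [u1_val, LinearMap.add_apply, Module.End.one_apply, add_eq_left] at this
      exact this
    have hmc : (e₁ b a) c = 0 := by simp [e₁, hac]
    have hs0 : hsq w c = 0 := by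
      rw [← F.hsq_right hwt, Module.End.mul_apply, hmc, map_zero]
    rw [LinearMap.add_apply, hs0, add_zero] at h0
    exact h0
  refine (Submodule.mem_bot k).1 (hc.inf_eq_bot.le ⟨memC.2 hfix, ?_⟩)
  rw [← e, map_add, hwc, zero_add]
  exact F.stable_wt hW' hw hw'

end Frame

end Cfsg.Agent.RootParabolic
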