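import Cfsg.Agent.Lib.Local.RootParabolic.Irreducible

/-!
The centre of the unipotent group of a root is its root group.
-/

set_option autoImplicit false
set_option linter.unusedSectionVars false
set_option linter.unusedVariables false
set_option linter.unusedSimpArgs false

namespace Cfsg.Agent.RootParabolic

open Cfsg Cfsg.Agent.Lead.QP Cfsg.Agent.EquivQuad

variable {p : ℕ} [Fact p.Prime] {M : Type} [AddCommGroup M] [Module (ZMod p) M] [Module.Finite (ZMod p) M]

local notation "k" => ZMod p
local notation "End'" => Module.End k M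
local notation "GL'" => LinearMap.GeneralLinearGroup k M

/-- Finitely many square zero maps commuting up to scalars have a common kernel. -/
theorem common_kernel (s : Finset End') : ∀ (V : Submodule k M), V ≠ ⊥ → (∀ f ∈ s, ∀ v ∈ V, f v ∈ V) →
    (∀ f ∈ s, f * f = 0) → (∀ f ∈ s, ∀ g ∈ s, ∃ r : k, f * g = r • (g * f)) →
    ∃ v ∈ V, v ≠ 0 ∧ ∀ f ∈ s, f v = 0 := by
  classical
  induction s using Finset.induction with
  | empty =>
    intro V hV _ _ _
    obtain ⟨v, hv, h0⟩ := (Submodule.ne_bot_iff V).1 hV
    exact ⟨v, hv, h0, fun f hf => absurd hf (Finset.notMem_empty f)⟩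
  | @insert f s hfs ih =>
    intro V hV hst hsq hcomm
    have hf := Finset.mem_insert_self f s
    have hV' : V ⊓ LinearMap.ker f ≠ ⊥ := by
      obtain ⟨v, hv, h0⟩ := (Submodule.ne_bot_iff V).1 hV
      by_cases hfv : f v = 0
      · exact (Submodule.ne_bot_iff _).2 ⟨v, ⟨hv, hfv⟩, h0⟩
      · exact (Submodule.ne_bot_iff _).2 ⟨f v, ⟨hst f hf v hv, LinearMap.congr_fun (hsq f hf) v⟩, hfv⟩
    obtain ⟨v, hv, h0, hall⟩ := ih (V ⊓ LinearMap.ker f) hV'
      (fun g hg v hv => ⟨hst g (Finset.mem_insert_of_mem hg) v hv.1, by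
        obtain ⟨r, hr⟩ := hcomm f hf g (Finset.mem_insert_of_mem hg)
        change f (g v) = 0
        rw [← Module.End.mul_apply, hr, LinearMap.smul_apply, Module.End.mul_apply,
          show f v = 0 from hv.2, map_zero, smul_zero]⟩)
      (fun g hg => hsq g (Finset.mem_insert_of_mem hg))
      (fun g hg g' hg' => hcomm g (Finset.mem_insert_of_mem hg) g' (Finset.mem_insert_of_mem hg'))
    refine ⟨v, hv.1, h0, fun g hg => ?_⟩
    rcases Finset.mem_insert.1 hg with rfl | hg
    · exact hv.2
    · exact hall g hg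

variable {G : Subgroup (LinearMap.GeneralLinearGroup (ZMod p) M)} {d : ℕ} {a b : Module.End (ZMod p) M}

/-- Weight one elements commuting with all weight one elements. -/
def Rad (G : Subgroup GL') (a b w : End') : Prop := InU G a b w ∧ ∀ v, InU G a b v → w * v = v * w

namespace Frame

variable (F : Frame G d a b)
include F

theorem rad_add {w v : End'} (hw : Rad G a b w) (hv : Rad G a b v) : Rad G a b (w + v) :=
  ⟨F.inU_add hw.1 hv.1, fun u hu => by rw [add_mul, mul_add, hw.2 u hu, hv.2 u hu]⟩

theorem rad_smul {w : End'} (hw : Rad G a b w) (r : k) : Rad G a b (r • w) :=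
  ⟨F.inU_smul hw.1 r, fun u hu => by rw [smul_mul_assoc, mul_smul_comm, hw.2 u hu]⟩

theorem rad_levi {l : GL'} (hl : l ∈ Levi G a b) {w : End'} (hw : Rad G a b w) : Rad G a b (cj l w) :=
  ⟨F.levi_inU hl hw.1, fun u hu => by
    have h := congrArg (cj l) (hw.2 _ (F.levi_inU (inv_mem hl) hu))
    rwa [cj_mul, cj_mul, cj_comp, mul_inv_cancel, cj_one] at h⟩

theorem rad_commute {w : End'} (hw : Rad G a b w) {u : GL'} (hu : u ∈ flagOf G a) :
    w * (u : End') = (u : End') * w := by
  obtain ⟨v, τ, hv, hτ, e⟩ := F.exists_decomp hu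
  rw [e]
  have e1 : w * hsq v = 0 := F.wt_corner_left hw.1.1 (F.hsq_left hv.1)
  have e2 : hsq v * w = 0 := F.wt_corner_right hw.1.1 (F.hsq_right hv.1)
  have e3 : w * τ = 0 := F.wt_corner_left hw.1.1 (F.rt_left hτ)
  have e4 : τ * w = 0 := F.wt_corner_right hw.1.1 (F.rt_right hτ)
  simp only [mul_add, add_mul, mul_one, one_mul, e1, e2, e3, e4, hw.2 v hv]

theorem rad_root_qd {w : End'} (hw : Rad G a b w) (h0 : w ≠ 0) (hww : w * w = 0) (hwb : w * b * w = 0) :
    Qd G d w := by
  obtain ⟨hwt, g, hg, e⟩ := hw.1
  rw [hsq, hww, smul_zero, add_zero] at e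
  refine ⟨hww, h0, inFam_mem hg e hww, le_antisymm ?_ (F.hs.min w hww h0 (inFam_mem hg e hww))⟩
  let f : LinearMap.range a →ₗ[k] M := (w * b).domRestrict (LinearMap.range a)
  have hker : LinearMap.range (w * e₀ a b) ≤ (LinearMap.ker f).map (LinearMap.range a).subtype := by
    rintro _ ⟨m, rfl⟩
    have hm : (w * e₀ a b) m ∈ LinearMap.range a := by
      rw [← F.wt_left hwt]
      exact range_le_of_left (Y := -(b * w)) (by simp [e₁, mul_assoc]) ⟨m, rfl⟩
    refine ⟨⟨_, hm⟩, ?_, rfl⟩
    change (w * b) ((w * e₀ a b) m) = 0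
    rw [← Module.End.mul_apply, ← mul_assoc, hwb, zero_mul]; rfl
  have hx : LinearMap.range (w * e₁ b a) ≤ LinearMap.range f := by
    rintro _ ⟨m, rfl⟩
    refine ⟨⟨a (-m), ⟨_, rfl⟩⟩, ?_⟩
    change (w * b) (a (-m)) = _
    simp [e₁]
  have hsplit : LinearMap.range w ≤ LinearMap.range (w * e₀ a b) ⊔ LinearMap.range (w * e₁ b a) := by
    rintro _ ⟨m, rfl⟩
    have : w m = (w * e₀ a b) m + (w * e₁ b a) m := by
      conv_lhs => rw [← mul_one w, ← F.sum_one, mul_add, mul_add, F.wt_ep_right hwt, zero_add]
      rw [LinearMap.add_apply]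
    rw [this]
    exact add_mem (Submodule.mem_sup_left ⟨m, rfl⟩) (Submodule.mem_sup_right ⟨m, rfl⟩)
  have hrn := f.finrank_range_add_finrank_ker
  rw [F.ha.rank] at hrn
  have h1 := Submodule.finrank_mono hker
  rw [(Submodule.equivMapOfInjective _ (Submodule.injective_subtype _) (LinearMap.ker f)).finrank_eq.symm] at h1
  have h2 := Submodule.finrank_mono hx
  have h3 := Submodule.finrank_mono hsplit
  have h4 := Submodule.finrank_add_le_finrank_add_finrank
    (LinearMap.range (w * e₀ a b)) (LinearMap.range (w * e₁ b a))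
  omega

/-- No root element lies in the radical. -/
theorem rad_root_zero {w : End'} (hw : Rad G a b w) (hww : w * w = 0) (hwb : w * b * w = 0) : w = 0 := by
  by_contra h0
  have qw := F.rad_root_qd hw h0 hww hwb
  obtain ⟨c', qc', ho⟩ := F.hpa w qw
  have hn : G ≤ Subgroup.normalizer (G : Set GL') := Subgroup.le_normalizer
  obtain ⟨y, hy, qy, -, ewy, eyw⟩ := F.hs.inverse qw qc' ho
  have hU1 : ∀ {X : End'} (hX : X * X = 0), InFam G X → a * X = 0 → X * a = 0 → e₀ a b * X * e₀ a b = 0 →
      w * X = X * w := fun {X} hX hm h1 h2 h3 => by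
    have h := F.rad_commute hw (F.mem_flag_of (hm.u1_mem hX) (u1_val X hX) h1 h2 h3)
    rw [u1_val, mul_add, add_mul, mul_one, one_mul] at h
    exact add_left_cancel h
  have aw := F.a_wt hw.1.1
  have wa := F.wt_a hw.1.1
  rcases trichotomy F.hs F.ha qc' with hop | hcomm | hcls
  · obtain ⟨y', hy', qy', -, e1, e2⟩ := F.hs.inverse F.ha qc' hop
    obtain ⟨u, hu, hue⟩ := inverse_transitive F.hs.h2 F.h3 F.ha F.hb qy' F.hp ⟨F.ha.sq, qy'.sq, e1, e2⟩
    have huw : cj u w = w := by
      rw [cj_apply, ← F.rad_commute hw hu, mul_assoc, ← Units.val_mul, mul_inv_cancel, Units.val_one, mul_one]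
    have ho' : Opp w b := by
      have h := ho.of_mem F.hs qw qc' qw.self_mem hy' qw.ne qy'.ne
      have := opp_cj h u⁻¹
      rw [← hue, cj_inv] at this
      conv at this => arg 1; rw [← huw]
      rwa [cj_inv] at this
    have hx : w * e₁ b a = 0 := LinearMap.ext fun m => by
      refine Submodule.disjoint_def.1 ho'.1 _ ⟨(e₁ b a) m, rfl⟩ (LinearMap.mem_ker.2 ?_)
      change b ((w * e₁ b a) m) = 0
      rw [← F.wt_mid hw.1.1, ← Module.End.mul_apply, ← mul_assoc, y_e₀ F.hp, zero_mul]; rfl
    have hwl : e₁ a b * w = w := by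
      rw [F.wt_left hw.1.1]
      conv_rhs => rw [← mul_one w, ← F.sum_one, mul_add, mul_add, F.wt_ep_right hw.1.1, hx, zero_add, add_zero]
    refine h0 (F.eq_zero_of_kills (F.wt_ep_right hw.1.1) ?_ (fun v β hv hβ => ?_) (fun β hβ => ?_) fun m hm => ?_)
    · rw [← F.b_left, ← mul_assoc, hx, zero_mul]
    · rw [hw.2 v hv, ← hwl, ← mul_assoc, F.wt_ep_right hv.1, zero_mul, zero_mul]
    · rw [← F.rb_left hβ, ← mul_assoc, hx, zero_mul]
    · obtain ⟨-, g, hg, e⟩ := hw.1
      have := hm g hg
      rw [e, hsq, hww, smul_zero, add_zero, LinearMap.add_apply, Module.End.one_apply, add_eq_left] at this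
      exact this
  · -- commuting position
    have hay : a * y = y * a := hcomm a F.ha.self_mem y hy
    set g : GL' := u1 y qy.sq with hg
    have hgG : g ∈ G := qy.mem.u1_mem qy.sq
    have hga : cj g a = (1 : k) • a := by
      rw [one_smul, cj_apply, hg, u1_val, add_mul, one_mul, ← hay]
      rw [show a + a * y = a * (1 + y) by rw [mul_add, mul_one], mul_assoc, ← u1_val y qy.sq, ← Units.val_mul,
        mul_inv_cancel, Units.val_one, mul_one]
    have huw : u1 w hww ∈ flagOf G a := F.mem_flag_of (qw.mem.u1_mem hww) (u1_val w hww) aw wa (by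
      rw [F.wt_mid hw.1.1, mul_assoc, F.mo, mul_zero])
    have hX := F.rad_commute hw (flagOf_conj (hn hgG) one_ne_zero hga huw)
    have eX : ((g * u1 w hww * g⁻¹ : GL') : End') = 1 + (w + y * w - w * y + y) := by
      rw [Units.val_mul, Units.val_mul, hg, u1_val, u1_val, show (((u1 y qy.sq)⁻¹ : GL') : End') = 1 - y from rfl]
      calc (1 + y) * (1 + w) * (1 - y) = 1 - y * y + (w + y * w - w * y - y * w * y) := by noncomm_ring
        _ = _ := by rw [qy.sq, eyw]; abel
    rw [eX, mul_add, add_mul, mul_one, one_mul, add_right_inj] at hX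
    have h1 : w * (w + y * w - w * y + y) = -w + w * y := by
      calc w * (w + y * w - w * y + y) = w * w + w * y * w - (w * w) * y + w * y := by noncomm_ring
        _ = _ := by rw [hww, ewy]; simp
    have h2 : (w + y * w - w * y + y) * w = w + y * w := by
      calc (w + y * w - w * y + y) * w = w * w + y * (w * w) - w * y * w + y * w := by noncomm_ring
        _ = _ := by rw [hww, ewy]; simp
    rw [h1, h2] at hX
    have h4 := congrArg (fun s => w * s) hX
    simp only [mul_add, mul_neg, ← mul_assoc, hww, ewy, zero_mul, neg_zero, zero_add] at h4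
    exact h0 (neg_eq_zero.1 h4.symm)
  · -- commutator position
    obtain ⟨qz, -, -, -⟩ := dim_data F.hs F.ha qc' hcls.1 F.ha.self_mem hy (hcls.2 a F.ha.self_mem y hy F.ha.ne qy.ne)
    have zmem := hcls.z_mem F.hs F.ha qc' F.ha.self_mem hy
    obtain ⟨az, za⟩ := hcls.z_ann F.hs F.ha qc' F.ha.self_mem zmem
    have hz : w * (a * y - y * a) = (a * y - y * a) * w := hU1 qz.sq qz.mem az za (by
      rw [mul_sub, ← mul_assoc, e₀_x F.hp, zero_mul, zero_sub, neg_mul, mul_assoc, mul_assoc y, x_e₀ F.hp, mul_zero,
        mul_zero, neg_zero])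
    have hz' : w * y * a + a * y * w = 0 := by
      have e : w * (a * y - y * a) - (a * y - y * a) * w =
          (w * a) * y - (w * y * a + a * y * w) + y * (a * w) := by noncomm_ring
      rw [hz, sub_self, wa, aw, zero_mul, mul_zero, add_zero, zero_sub, eq_comm, neg_eq_zero] at e
      exact e
    have e' : a * (w + w * y - y * w + y) - (w + w * y - y * w + y) * a =
        (a * w) - (w * a) + (a * w) * y + y * (w * a) - (w * y * a + a * y * w) + (a * y - y * a) := by noncomm_ring
    have yay : y * a * y = 0 := triple_zero' F.hs F.ha qc' hcls.1 hy F.ha.self_mem hy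
    set g : GL' := u1 y qy.sq with hg
    have hgG : g ∈ G := qy.mem.u1_mem qy.sq
    have e1 : cj g a = a - (a * y - y * a) := by
      rw [cj_apply, hg, u1_val, show (((u1 y qy.sq)⁻¹ : GL') : End') = 1 - y from rfl]
      calc (1 + y) * a * (1 - y) = a - (a * y - y * a) - y * a * y := by noncomm_ring
        _ = _ := by rw [yay, sub_zero]
    have hwX : w * cj g a = cj g a * w := by rw [e1, mul_sub, sub_mul, hz, wa, aw]
    have hX := congrArg (cj g⁻¹) hwX
    rw [cj_mul, cj_mul, cj_inv] at hX
    have e2 : cj g⁻¹ w = w + w * y - y * w + y := by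
      rw [cj_apply, inv_inv, hg, u1_val, show (((u1 y qy.sq)⁻¹ : GL') : End') = 1 - y from rfl]
      calc (1 - y) * w * (1 + y) = w + w * y - y * w - y * w * y := by noncomm_ring
        _ = _ := by rw [eyw]; abel
    rw [e2] at hX
    rw [← hX, sub_self, aw, wa, hz', zero_mul, mul_zero, sub_zero, add_zero, add_zero, sub_zero, zero_add] at e'
    exact hcls.2 a F.ha.self_mem y hy F.ha.ne qy.ne e'.symm

/-- The squares of radical elements are singular and give radical root elements. -/
theorem rad_phi {w : End'} (hw : Rad G a b w) :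
    hsq w * b * hsq w = 0 ∧ w * b * hsq w = 0 ∧ hsq w * b * w = 0 := by
  set t := hsq w with ht
  have hwt := hw.1.1
  have tl : e₁ a b * t = t := F.hsq_left hwt
  have tr : t * e₁ b a = t := F.hsq_right hwt
  have ww : w * w = t + t := F.two_hsq.symm
  have wt0 : w * t = 0 := F.wt_corner_left hwt tl
  have tw0 : t * w = 0 := F.wt_corner_right hwt tr
  have tt : t * t = 0 := orth tr tl F.mp
  have tbt : t * b * t = 0 := by
    rcases F.shift_dichotomy hw.1 (zero_mem _) F.hb.self_mem F.hb.ne with ⟨hI, -, l, hl, einv, elem, elo⟩ | h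
    swap
    · simpa using h
    exfalso
    rw [add_zero, ← ht] at hI einv
    rw [sub_zero, ← ht] at elem
    obtain ⟨S, hSl, hSr, hTS, hST⟩ := hI
    have hlo := elo S hSl hSr (by rwa [sub_zero])
    have lo := F.levi_e₀ hl
    have wSw : w * S * w * (w * S * w) = -(w * S * w) - (w * S * w) := by
      calc w * S * w * (w * S * w) = w * S * (w * w) * (S * w) := by simp only [mul_assoc]
        _ = w * (S * t) * (S * w) + w * (S * t) * (S * w) := by rw [ww]; noncomm_ring
        _ = _ := by rw [hST, mul_neg, neg_mul, ← mul_assoc, mul_assoc w (e₁ b a), hSl]; noncomm_ring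
    have wl : w * (l : End') * w = -(t + t) := by
      calc w * (l : End') * w = w * ((l : End') * e₀ a b) * w + (w * e₁ a b) * (l : End') * w
              + w * ((l : End') * e₁ b a) * w := by
            conv_lhs => rw [← mul_one (l : End'), ← F.sum_one]
            rw [mul_add, mul_add, mul_add, mul_add, add_mul, add_mul]
            rw [hl.2.1.eq, ← mul_assoc w]; abel
        _ = w * (e₀ a b + w * S * w) * w := by
            rw [hlo, F.wt_ep_right hwt, zero_mul, zero_mul, hl.2.2.eq, ← mul_assoc, mul_assoc (w * e₁ b a),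
              mul_assoc w, ← mul_assoc]
            have : e₁ b a * ((l : End') * w) = 0 := by
              rw [← mul_assoc, ← hl.2.2.eq, mul_assoc, F.wt_em_left hwt, mul_zero]
            simp only [mul_assoc, this, mul_zero]; abel
        _ = w * (e₀ a b * w) + (w * w) * S * (w * w) := by noncomm_ring
        _ = _ := by
            rw [F.wt_mid hwt, ← mul_assoc, F.mul_right_corner hwt hwt, ww]
            simp only [add_mul, mul_add, hTS, neg_mul, tl]
            abel
    have hinv : ((l⁻¹ : GL') : End') * e₀ a b = (l : End') * e₀ a b := by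
      have h2 : (l : End') * ((l : End') * e₀ a b) = e₀ a b := by
        calc (l : End') * ((l : End') * e₀ a b) = ((l : End') * e₀ a b) * ((l : End') * e₀ a b) := by
              conv_rhs => rw [mul_assoc, ← mul_assoc (e₀ a b), ← lo.eq, mul_assoc (l : End'), F.oo]
          _ = _ := by
              rw [hlo, mul_add, add_mul, add_mul, wSw, F.oo]
              have : e₀ a b * (w * S * w) = w * S * w := by
                rw [← mul_assoc, ← mul_assoc, F.wt_mid hwt, mul_assoc w, hSl]
              have this' : w * S * w * e₀ a b = w * S * w := by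
                rw [mul_assoc, ← F.wt_left hwt, ← mul_assoc, mul_assoc w S, hSr]
              rw [this, this']; abel
      conv_lhs => rw [← h2]
      rw [← mul_assoc, ← Units.val_mul, inv_mul_cancel, Units.val_one, one_mul]
    have wli : w * ((l⁻¹ : GL') : End') * w = -(t + t) := by
      rw [← wl]
      have split : ∀ Y : End', Commute Y (e₁ a b) → Commute Y (e₁ b a) → w * Y * w = w * (Y * e₀ a b) * w :=
        fun Y hp hm => by
          conv_lhs => rw [← mul_one Y, ← F.sum_one, mul_add, mul_add, mul_add, mul_add, add_mul, add_mul, hp.eq,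
            ← mul_assoc w (e₁ a b), F.wt_ep_right hwt, zero_mul, zero_mul, hm.eq, mul_assoc w (e₁ b a * Y),
            mul_assoc (e₁ b a)]
          have : e₁ b a * (Y * w) = 0 := by rw [← mul_assoc, ← hm.eq, mul_assoc, F.wt_em_left hwt, mul_zero]
          rw [this, mul_zero, zero_add, add_zero]
      rw [split _ hl.2.1.units_inv_left hl.2.2.units_inv_left, split _ hl.2.1 hl.2.2, hinv]
    have hc := hw.2 _ (F.levi_inU hl hw.1)
    have key : t * (l : End') = ((l⁻¹ : GL') : End') * t := by
      have h5 := congrArg (fun s => ((l⁻¹ : GL') : End') * s * (l : End')) hc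
      have e1 : ((l⁻¹ : GL') : End') * (cj l w * w) * (l : End') = (w * ((l⁻¹ : GL') : End') * w) * (l : End') := by
        rw [cj_apply]; simp only [← mul_assoc, ← Units.val_mul, inv_mul_cancel, Units.val_one, one_mul]
      have e2 : ((l⁻¹ : GL') : End') * (w * cj l w) * (l : End') = ((l⁻¹ : GL') : End') * (w * (l : End') * w) := by
        rw [cj_apply]
        simp only [mul_assoc, ← Units.val_mul, inv_mul_cancel, Units.val_one, mul_one]
      simp only [e1, e2, wl, wli, neg_mul, mul_neg, neg_inj, add_mul, mul_add, ← two_smul k, mul_smul_comm, smul_mul_assoc] at h5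
      exact (smul_right_injective _ F.two_ne h5).symm
    have h6 : t * b * t = 0 := by
      have l1 : t * (l : End') = -(t * b * t) := by
        conv_lhs => rw [← tr, mul_assoc, ← hl.2.2.eq, elem, mul_neg, ← mul_assoc]
      have l2 : ((l⁻¹ : GL') : End') * t = t * b * t := by
        conv_lhs => rw [← tl, ← mul_assoc, einv]
      rw [l1, l2, eq_comm, eq_neg_iff_add_eq_zero, ← two_smul k] at key
      exact (smul_eq_zero.1 key).resolve_left F.two_ne
    have h7 := congrArg (fun s => S * s * S) h6
    simp only [mul_zero, zero_mul] at h7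
    refine F.hb.ne ?_
    rw [← h7]
    calc b = (-e₁ b a) * b * (-e₁ a b) := by rw [neg_mul, F.b_left, neg_mul_neg, F.b_right]
      _ = S * (t * b * t) * S := by rw [← hST, ← hTS]; simp only [mul_assoc]
  refine ⟨tbt, ?_⟩
  -- the element with shift a
  rcases F.shift_dichotomy hw.1 F.ha.self_mem (neg_mem F.hb.self_mem) (neg_ne_zero.2 F.hb.ne) with
    ⟨-, -, l, hl, einv, elem, elo⟩ | h
  swap
  · exfalso
    rw [← ht] at h
    have : (t + a) * -b * (t - a) = -(t * b * t) + ((t * b) * a - (a * b) * t) + a * b * a := by noncomm_ring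
    rw [this, tbt, F.hp.xyx, F.ab, neg_mul, tl, neg_zero, zero_add, sub_neg_eq_add] at h
    have r2 : t * b * a = -t := by rw [mul_assoc, F.ba, mul_neg, tr]
    rw [r2, neg_add_cancel, zero_add, neg_eq_zero] at h
    exact F.ha.ne h
  rw [← ht] at einv elem elo
  have einv' : ((l⁻¹ : GL') : End') * e₁ a b = e₁ a b - t * b := by
    rw [einv, mul_neg, add_mul, F.ab]; abel
  have elem' : (l : End') * e₁ b a = e₁ b a + b * t := by
    rw [elem, neg_mul, neg_neg, mul_sub, F.ba]; abel
  have hS : (t - a) * (-b + b * t * b) = -e₁ a b := by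
    calc (t - a) * (-b + b * t * b) = -(t * b) + (t * b * t) * b + a * b - (a * b) * t * b := by noncomm_ring
      _ = _ := by rw [tbt, F.ab, neg_mul, tl]; noncomm_ring
  have elo' := elo _ (by rw [mul_add, mul_neg, F.b_left, ← mul_assoc, ← mul_assoc, F.b_left])
    (by rw [add_mul, neg_mul, F.b_right, mul_assoc, F.b_right]) hS
  have loinv : ((l⁻¹ : GL') : End') * e₀ a b = e₀ a b + w * b * w + w * b * t * b * w := by
    have lo := F.levi_e₀ hl
    have bl : e₀ a b * (w * b) = w * b := by rw [← mul_assoc, F.wt_mid hwt, mul_assoc, F.b_left]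
    have wr : b * w * e₀ a b = b * w := by
      rw [mul_assoc, ← F.wt_left hwt, ← mul_assoc, F.b_right]
    have h2 : (l : End') * (e₀ a b + w * b * w + w * b * t * b * w) = e₀ a b := by
      have : e₀ a b + w * b * w + w * b * t * b * w = e₀ a b * (e₀ a b + w * b * w + w * b * t * b * w) := by
        rw [mul_add, mul_add, F.oo]
        simp only [← mul_assoc] at bl ⊢
        rw [bl]
      rw [this, ← mul_assoc, elo']
      calc (e₀ a b + w * (-b + b * t * b) * w) * (e₀ a b + w * b * w + w * b * t * b * w)
          = e₀ a b * e₀ a b + (e₀ a b * (w * b)) * w + (e₀ a b * (w * b)) * t * b * w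
            - w * (b * w * e₀ a b) + w * b * t * (b * w * e₀ a b)
            - w * b * (w * w) * b * w - w * b * (w * w) * b * t * b * w
            + w * b * t * b * (w * w) * b * w + w * b * t * b * (w * w) * b * t * b * w := by noncomm_ring
        _ = e₀ a b + w * b * t * b * w + w * b * t * b * w - w * b * (t + t) * b * w
            - w * b * ((t * b * t) + (t * b * t)) * b * w + w * b * ((t * b * t) + (t * b * t)) * b * w
            + w * b * ((t * b * t) + (t * b * t)) * b * t * b * w := by rw [F.oo, bl, wr, ww]; noncomm_ring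
        _ = _ := by rw [tbt]; noncomm_ring
    conv_lhs => rw [← h2]
    rw [← mul_assoc, ← Units.val_mul, inv_mul_cancel, Units.val_one, one_mul]
  have eminv : ((l⁻¹ : GL') : End') * e₁ b a = e₁ b a - b * t := by
    have h2 : (l : End') * (e₁ b a - b * t) = e₁ b a := by
      have : e₁ b a - b * t = e₁ b a * (e₁ b a - b * t) := by rw [mul_sub, F.mm, ← mul_assoc, F.b_left]
      rw [this, ← mul_assoc, elem']
      calc (e₁ b a + b * t) * (e₁ b a - b * t) = e₁ b a * e₁ b a - (e₁ b a * b) * t + b * (t * e₁ b a)
            - b * (t * b * t) := by noncomm_ring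
        _ = _ := by rw [F.mm, F.b_left, tr, tbt]; noncomm_ring
    conv_lhs => rw [← h2]
    rw [← mul_assoc, ← Units.val_mul, inv_mul_cancel, Units.val_one, one_mul]
  have lep : (l : End') * e₁ a b = e₁ a b + t * b := by
    have h2 : ((l⁻¹ : GL') : End') * (e₁ a b + t * b) = e₁ a b := by
      have : e₁ a b + t * b = e₁ a b * (e₁ a b + t * b) := by rw [mul_add, F.pp, ← mul_assoc, tl]
      rw [this, ← mul_assoc, einv']
      calc (e₁ a b - t * b) * (e₁ a b + t * b) = e₁ a b * e₁ a b + (e₁ a b * t) * b - t * (b * e₁ a b)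
            - (t * b * t) * b := by noncomm_ring
        _ = _ := by rw [F.pp, tl, F.b_right, tbt]; noncomm_ring
    conv_lhs => rw [← h2]
    rw [← mul_assoc, ← Units.val_mul, mul_inv_cancel, Units.val_one, one_mul]
  set φ := w * b * t - t * b * w with hφ
  have hcj : cj l w - w = (-3 : k) • φ := by
    have dec : cj l w = (l : End') * e₀ a b * w * (((l⁻¹ : GL') : End') * e₁ b a)
        + (l : End') * e₁ a b * w * (((l⁻¹ : GL') : End') * e₀ a b) := by
      rw [hl.2.2.units_inv_left.eq, (F.levi_e₀ hl).units_inv_left.eq]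
      calc cj l w = (l : End') * (e₀ a b * w * e₁ b a + e₁ a b * w * e₀ a b) * ((l⁻¹ : GL') : End') := by
            rw [show e₀ a b * w * e₁ b a + e₁ a b * w * e₀ a b = w from hwt]; rfl
        _ = _ := by noncomm_ring
    rw [dec, elo', eminv, lep, loinv]
    have q1 : w * (e₁ b a) + w * e₀ a b = w := by
      conv_rhs => rw [← mul_one w, ← F.sum_one, mul_add, mul_add, F.wt_ep_right hwt, zero_add, add_comm]
    calc (e₀ a b + w * (-b + b * t * b) * w) * w * (e₁ b a - b * t)
          + (e₁ a b + t * b) * w * (e₀ a b + w * b * w + w * b * t * b * w) - w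
        = (e₀ a b * w) * e₁ b a - (e₀ a b * w) * b * t - w * b * ((w * w) * e₁ b a) + w * b * (w * w) * b * t
          + w * b * (t * b * (w * w)) * e₁ b a - w * b * (t * b * (w * w)) * b * t
          + (e₁ a b * w) * e₀ a b + (e₁ a b * (w * w)) * b * w + (e₁ a b * (w * w)) * b * t * b * w
          + t * (b * w * e₀ a b) + t * b * (w * w) * b * w + t * b * (w * w) * b * t * b * w - w := by noncomm_ring
      _ = (w * e₁ b a) * e₁ b a - (w * (e₁ b a * b)) * t - w * b * (t + t) + w * b * ((t * b * t) + (t * b * t))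
          + w * b * ((t * b * t) + (t * b * t)) * e₁ b a - w * b * ((t * b * t) + (t * b * t)) * b * t
          + (w * e₀ a b) * e₀ a b + (t + t) * b * w + ((t * b * t) + (t * b * t)) * b * w
          + t * (b * w * e₀ a b) + ((t * b * t) + (t * b * t)) * b * w
          + ((t * b * t) + (t * b * t)) * b * t * b * w - w := by
            rw [F.wt_mid hwt, F.wt_left hwt, F.mul_right_corner hwt hwt, F.mul_left_corner hwt hwt, ww]
            noncomm_ring
      _ = (w * e₁ b a + w * e₀ a b) - (w * b * t + w * b * t + w * b * t) + (t * b * w + t * b * w + t * b * w)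
          - w := by
            rw [tbt, F.b_left, mul_assoc w (e₁ b a), F.mm, mul_assoc w (e₀ a b), F.oo]
            rw [show b * w * e₀ a b = b * w by rw [mul_assoc, ← F.wt_left hwt, ← mul_assoc, F.b_right]]
            noncomm_ring
      _ = _ := by rw [q1, hφ]; module
  have hφR : Rad G a b φ := by
    have h9 : φ = (-3 : k)⁻¹ • (cj l w + (-1 : k) • w) := by
      rw [neg_one_smul, ← sub_eq_add_neg, hcj, smul_smul, inv_mul_cancel₀ (neg_ne_zero.2 F.h3), one_smul]
    rw [h9]
    exact F.rad_smul (F.rad_add (F.rad_levi hl hw) (F.rad_smul hw _)) _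
  have hφ0 : φ = 0 := by
    refine F.rad_root_zero hφR ?_ ?_
    · calc φ * φ = w * b * (t * w) * b * t - w * b * (t * t) * b * w - t * b * (w * w) * b * t
            + t * b * (w * t) * b * w := by rw [hφ]; noncomm_ring
        _ = _ := by
          rw [tw0, tt, wt0, ww]
          calc _ = -((t * b * t) * b * t + (t * b * t) * b * t) := by noncomm_ring
            _ = 0 := by rw [tbt]; simp
    · have bwb : b * w * b = 0 := F.mid_zero hwt F.b_right F.b_left
      calc φ * b * φ = w * b * t * (b * w * b) * t - w * b * (t * b * t) * b * w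
            - t * (b * w * b) * w * b * t + t * (b * w * b) * t * b * w := by rw [hφ]; noncomm_ring
        _ = 0 := by rw [bwb, tbt]; simp
  have hle : e₀ a b * (w * b * t) = w * b * t := by
    rw [← mul_assoc, ← mul_assoc, F.wt_mid hwt, mul_assoc w, F.b_left]
  have hre : e₀ a b * (t * b * w) = 0 := by
    rw [← tl, ← mul_assoc, ← mul_assoc, ← mul_assoc, F.op, zero_mul, zero_mul, zero_mul]
  have h10 := congrArg (fun s => e₀ a b * s) (sub_eq_zero.1 hφ0)
  simp only [hle, hre] at h10
  exact ⟨h10, (sub_eq_zero.1 hφ0).symm.trans h10⟩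

/-- The squares of radical elements vanish. -/
theorem rad_sq {w : End'} (hw : Rad G a b w) : hsq w = 0 := by
  classical
  haveI : Finite End' := Module.finite_of_finite k
  haveI : Fintype End' := Fintype.ofFinite _
  have sym : ∀ {w w' : End'}, Rad G a b w → Rad G a b w' →
      hsq w * b * hsq w' = hsq w' * b * hsq w := by
    intro w w' hw hw'
    have hc := hw.2 w' hw'.1
    obtain ⟨-, p1, q1⟩ := F.rad_phi (F.rad_add hw hw')
    obtain ⟨-, p2, q2⟩ := F.rad_phi (F.rad_add hw (F.rad_smul hw' (-1)))
    obtain ⟨-, r1, s1⟩ := F.rad_phi hw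
    obtain ⟨-, r2, s2⟩ := F.rad_phi hw'
    have e1 : hsq (w + w') = hsq w + hsq w' + w * w' := by
      simp only [hsq, mul_add, add_mul, smul_add, ← hc]
      have : (2 : k)⁻¹ • (w * w') + (2 : k)⁻¹ • (w * w') = w * w' := by
        rw [← two_smul k, smul_smul, mul_inv_cancel₀ F.two_ne, one_smul]
      conv_rhs => rw [← this]
      abel
    have e2 : hsq (w + (-1 : k) • w') = hsq w + hsq w' - w * w' := by
      simp only [hsq, neg_one_smul, mul_add, add_mul, mul_neg, neg_mul, smul_add, smul_neg, neg_neg, ← hc]
      have : (2 : k)⁻¹ • (w * w') + (2 : k)⁻¹ • (w * w') = w * w' := by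
        rw [← two_smul k, smul_smul, mul_inv_cancel₀ F.two_ne, one_smul]
      conv_rhs => rw [← this]
      abel
    rw [neg_one_smul] at p2 q2 e2
    rw [e1] at p1 q1
    rw [e2] at p2 q2
    have B : w * b * (w * w') + w' * b * hsq w = 0 := by
      have h : (w + w') * b * (hsq w + hsq w' + w * w') - (w + -w') * b * (hsq w + hsq w' - w * w') =
          (w * b * (w * w') + w' * b * hsq w) + (w * b * (w * w') + w' * b * hsq w)
          + ((w' * b * hsq w') + (w' * b * hsq w')) := by noncomm_ring
      rw [p1, p2, r2, sub_zero, add_zero, add_zero, eq_comm, ← two_smul k] at h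
      exact (smul_eq_zero.1 h).resolve_left F.two_ne
    have B' : (w * w') * b * w + hsq w * b * w' = 0 := by
      have h : (hsq w + hsq w' + w * w') * b * (w + w') - (hsq w + hsq w' - w * w') * b * (w + -w') =
          ((w * w') * b * w + hsq w * b * w') + ((w * w') * b * w + hsq w * b * w')
          + ((hsq w' * b * w') + (hsq w' * b * w')) := by noncomm_ring
      rw [q1, q2, s2, sub_zero, add_zero, add_zero, eq_comm, ← two_smul k] at h
      exact (smul_eq_zero.1 h).resolve_left F.two_ne
    have h1 := congrArg (fun s => w' * s) B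
    have h2 := congrArg (fun s => s * w') B'
    simp only [mul_add, add_mul, mul_zero, zero_mul] at h1 h2
    have h3 : (w' * w) * b * (w * w') + (w' * w') * b * hsq w =
        (w * w') * b * (w * w') + hsq w * b * (w' * w') := by
      calc _ = w' * (w * b * (w * w')) + w' * (w' * b * hsq w) := by noncomm_ring
        _ = w * w' * b * w * w' + hsq w * b * w' * w' := h1.trans h2.symm
        _ = _ := by noncomm_ring
    rw [← hc, add_right_inj, ← F.two_hsq, add_mul, add_mul, mul_add, ← two_smul k, ← two_smul k] at h3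
    exact (smul_right_injective _ F.two_ne h3).symm
  let K : Submodule k M := LinearMap.range (e₁ b a) ⊓
    ⨅ v : {v : End' // Rad G a b v}, LinearMap.ker (hsq v.1)
  have hKle : K ≤ LinearMap.range (e₁ b a) := inf_le_left
  have hK : Stable (Levi G b a) K := by
    intro l hl m hm
    have hl' : l ∈ Levi G a b := F.symm.levi_symm hl
    refine ⟨?_, ?_⟩
    · obtain ⟨m', hm'⟩ := hm.1
      exact ⟨(l : End') m', by rw [← hm', ← Module.End.mul_apply, ← hl'.2.2.eq]; rfl⟩
    · simp only [SetLike.mem_coe, Submodule.mem_iInf, Subtype.forall, LinearMap.mem_ker]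
      intro v hv
      have h := hm.2
      simp only [SetLike.mem_coe, Submodule.mem_iInf, Subtype.forall, LinearMap.mem_ker] at h
      have h0 := h _ (F.rad_levi (inv_mem hl') hv)
      have e : hsq (cj l⁻¹ v) = ((l⁻¹ : GL') : End') * hsq v * (l : End') := by
        rw [hsq, ← cj_mul, ← map_smul, cj_apply, inv_inv]; rfl
      rw [e] at h0
      have := congrArg (l : End') h0
      rwa [map_zero, ← Module.End.mul_apply, ← mul_assoc, ← mul_assoc, ← Units.val_mul, mul_inv_cancel,
        Units.val_one, one_mul] at this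
  have hfull := F.symm.corner_full hKle hK (fun W' hW' hne => by
    let s : Finset End' := (Finset.univ.filter (Rad G a b)).image fun v => b * hsq v
    have hs : ∀ f ∈ s, ∃ v, Rad G a b v ∧ f = b * hsq v := fun f hf => by
      obtain ⟨v, hv, rfl⟩ := Finset.mem_image.1 hf
      exact ⟨v, (Finset.mem_filter.1 hv).2, rfl⟩
    obtain ⟨m, hm, hm0, hall⟩ := common_kernel s (W' ⊓ LinearMap.range (e₁ b a)) hne
      (fun f hf v hv => by
        obtain ⟨u, hu, rfl⟩ := hs f hf
        refine ⟨F.stable_rt hW' F.hb.self_mem ?_, ⟨(b * hsq u) v, by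
          rw [← Module.End.mul_apply, ← mul_assoc, F.b_left]⟩⟩
        rw [hsq, LinearMap.smul_apply, Module.End.mul_apply]
        exact Submodule.smul_mem _ _ (F.stable_wt hW' hu.1 (F.stable_wt hW' hu.1 hv.1)))
      (fun f hf => by
        obtain ⟨u, hu, rfl⟩ := hs f hf
        rw [mul_assoc, ← mul_assoc (hsq u), (F.rad_phi hu).1, mul_zero])
      (fun f hf g hg => by
        obtain ⟨u, hu, rfl⟩ := hs f hf
        obtain ⟨u', hu', rfl⟩ := hs g hg
        exact ⟨1, by rw [one_smul, mul_assoc, ← mul_assoc (hsq u), sym hu hu', mul_assoc, mul_assoc]⟩)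
    refine (Submodule.ne_bot_iff _).2 ⟨m, ⟨hm.1, hm.2, ?_⟩, hm0⟩
    simp only [SetLike.mem_coe, Submodule.mem_iInf, Subtype.forall, LinearMap.mem_ker]
    intro v hv
    have h := congrArg a (hall _ (Finset.mem_image.2 ⟨v, Finset.mem_filter.2 ⟨Finset.mem_univ v, hv⟩, rfl⟩))
    rwa [map_zero, ← Module.End.mul_apply, ← mul_assoc, F.ab, neg_mul, F.hsq_left hv.1.1, LinearMap.neg_apply,
      neg_eq_zero] at h)
  refine LinearMap.ext fun m => ?_
  rw [← F.hsq_right hw.1.1, Module.End.mul_apply]
  have hm : (e₁ b a) m ∈ K := hfull ▸ ⟨m, rfl⟩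
  have h := hm.2
  simp only [SetLike.mem_coe, Submodule.mem_iInf, Subtype.forall, LinearMap.mem_ker] at h
  exact h w hw

/-- The radical is trivial. -/
theorem rad_zero {w : End'} (hw : Rad G a b w) : w = 0 := by
  classical
  haveI : Finite End' := Module.finite_of_finite k
  haveI : Fintype End' := Fintype.ofFinite _
  have hwt := hw.1.1
  have ww : w * w = 0 := by rw [← F.two_hsq, F.rad_sq hw, add_zero]
  refine F.rad_root_zero hw ww ?_
  by_contra hd
  -- the element
  rcases F.shift_dichotomy hw.1 F.ha.self_mem (neg_mem F.hb.self_mem) (neg_ne_zero.2 F.hb.ne) with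
    ⟨-, -, l, hl, einv, elem, elo⟩ | h
  swap
  · simp only [F.rad_sq hw, zero_add, zero_sub, mul_neg, neg_mul, neg_neg, F.hp.xyx, neg_eq_zero] at h
    exact F.ha.ne h
  rw [F.rad_sq hw, zero_add, mul_neg, F.ab, neg_neg] at einv
  rw [F.rad_sq hw, zero_sub, neg_mul_neg, F.ba, neg_neg] at elem
  have elo' := elo (-b) (by rw [mul_neg, F.b_left]) (by rw [neg_mul, F.b_right])
    (by rw [F.rad_sq hw, zero_sub, neg_mul_neg, F.ab])
  have lep : (l : End') * e₁ a b = e₁ a b := by
    conv_lhs => rw [← einv]
    rw [← mul_assoc, ← Units.val_mul, mul_inv_cancel, Units.val_one, one_mul]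
  have lval : (l : End') = 1 - w * b * w := by
    conv_lhs => rw [← mul_one (l : End'), ← F.sum_one, mul_add, mul_add, lep, elo', elem]
    rw [← F.sum_one]; noncomm_ring
  have dd : w * b * w * (w * b * w) = 0 := by
    rw [show w * b * w * (w * b * w) = w * b * (w * w) * b * w by simp only [mul_assoc], ww]; simp
  have hmin := F.hs.min (-(w * b * w)) (by rw [neg_mul_neg, dd]) (neg_ne_zero.2 hd)
    (inFam_mem hl.1 (by rw [lval, sub_eq_add_neg]) (by rw [neg_mul_neg, dd]))
  rw [LinearMap.range_neg] at hmin
  -- the anticommuting family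
  have sqz : ∀ v, InU G a b v → v * w * b * (v * w) = 0 := by
    intro v hv
    have hP : w * v = v * w := hw.2 v hv
    have hliv : ((l⁻¹ : GL') : End') = 1 + w * b * w := Units.inv_eq_of_mul_eq_one_right (by
      rw [lval]
      calc (1 - w * b * w) * (1 + w * b * w) = 1 - w * b * w * (w * b * w) := by noncomm_ring
        _ = 1 := by rw [dd, sub_zero])
    have hD : cj l v - v = v * (w * b * w) - w * b * w * v - (w * b * w) * v * (w * b * w) := by
      rw [cj_apply, lval, hliv]; noncomm_ring
    have hcD : e₁ a b * (v * w * b * (v * w)) = v * w * b * (v * w) ∧ v * w * b * (v * w) * e₁ b a = v * w * b * (v * w) := by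
      refine ⟨?_, ?_⟩
      · rw [mul_assoc (v * w) b, ← mul_assoc (e₁ a b), F.mul_left_corner hv.1 hwt]
      · rw [mul_assoc, F.mul_right_corner hv.1 hwt]
    have z3 : w * b * w * v * (w * b * w) = 0 := by
      calc w * b * w * v * (w * b * w) = w * b * (w * (v * w)) * b * w := by simp only [mul_assoc]
        _ = _ := by rw [← hP, ← mul_assoc w w, ww]; simp
    rw [z3, sub_zero] at hD
    have hom := F.omega_mem (F.inU_sub (F.levi_inU hl hv) hv) hv
    have e : (cj l v - v) * v - v * (cj l v - v) = v * w * b * (v * w) + v * w * b * (v * w) := by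
      rw [hD]
      have z1 : w * b * w * v * v = 0 := by
        rw [mul_assoc (w * b * w), mul_assoc (w * b) w, F.wt_corner_left hwt (F.mul_left_corner hv.1 hv.1), mul_zero]
      have z2 : v * v * (w * b * w) = 0 := by
        rw [← mul_assoc, ← mul_assoc, F.wt_corner_right hwt (F.mul_right_corner hv.1 hv.1), zero_mul, zero_mul]
      calc (v * (w * b * w) - w * b * w * v) * v - v * (v * (w * b * w) - w * b * w * v)
          = v * w * b * (w * v) - w * b * w * v * v - v * v * (w * b * w) + v * w * b * (w * v) := by noncomm_ring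
        _ = _ := by rw [z1, z2, hP, sub_zero, sub_zero]
    rw [e, ← two_smul k] at hom
    have hPb : v * w * b * (v * w) ∈ Rt G a := by
      have := Submodule.smul_mem _ (2 : k)⁻¹ hom
      rwa [smul_smul, inv_mul_cancel₀ F.two_ne, one_smul] at this
    by_contra hne
    obtain ⟨y, hy, -, -, -, ecy, -⟩ := F.rt_inverse hPb hne
    have hI : (v * w) * (b * (v * w) * y) = -e₁ a b := by rw [← mul_assoc, ← mul_assoc, ecy]
    have Pl := F.mul_left_corner hv.1 hwt
    have Pr := F.mul_right_corner hv.1 hwt
    have hRP := F.inv_of_left Pr Pl (by rw [← mul_assoc, ← mul_assoc, F.b_left]) (by rw [mul_assoc, F.rb_right hy]) hI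
    -- a shift with invertible square
    have expand : ∀ r : k, hsq (v + r • w) = hsq v + r • (v * w) := fun r => by
      simp only [hsq, mul_add, add_mul, mul_smul_comm, smul_mul_assoc, ww, smul_zero, add_zero, hP, smul_add]
      rw [smul_comm (2 : k)⁻¹ r]
      have : (2 : k)⁻¹ • (v * w) + (2 : k)⁻¹ • (v * w) = v * w := by
        rw [← two_smul k, smul_smul, mul_inv_cancel₀ F.two_ne, one_smul]
      rw [add_assoc, ← smul_add, this]
    have main : ∀ r : k, hsq (v + r • w) * b * hsq (v + r • w) = 0 := by
      intro r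
      have hv1 : InU G a b (v + r • w) := F.inU_add hv (F.inU_smul hw.1 r)
      rcases F.shift_dichotomy hv1 (zero_mem _) F.hb.self_mem F.hb.ne with ⟨hI1, -, l1, hl1, -, -, elo1⟩ | h
      swap
      · simpa using h
      exfalso
      rw [add_zero] at hI1
      obtain ⟨S, hSl, hSr, hTS, hST⟩ := hI1
      have hlo := elo1 S hSl hSr (by rwa [sub_zero])
      have h0 : w * cj l1 w = 0 := by
        have hc := hw.2 _ (F.levi_inU hl1 hw.1)
        have h2 := F.rad_sq (F.rad_add hw (F.rad_levi hl1 hw))
        rw [hsq, smul_eq_zero, or_iff_right (inv_ne_zero F.two_ne)] at h2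
        have ww' : cj l1 w * cj l1 w = 0 := by rw [← cj_mul, ww, map_zero]
        simp only [mul_add, add_mul, ww, ww', zero_add, add_zero, ← hc] at h2
        rw [← two_smul k] at h2
        exact (smul_eq_zero.1 h2).resolve_left F.two_ne
      have h1 : w * (l1 : End') * w = 0 := by
        have := congrArg (fun s => s * (l1 : End')) h0
        simp only [cj_apply, mul_assoc, ← Units.val_mul, inv_mul_cancel, Units.val_one, mul_one, zero_mul] at this
        rwa [mul_assoc]
      have h4 : (v * w) * S * (v * w) = 0 := by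
        have hh : w * (l1 : End') * w = (v * w) * S * (v * w) := by
          calc w * (l1 : End') * w = w * ((l1 : End') * e₀ a b) * w + (w * e₁ a b) * (l1 : End') * w
                + w * (l1 : End') * (e₁ b a * w) := by
                  conv_lhs => rw [← mul_one (l1 : End'), ← F.sum_one]
                  rw [mul_assoc w (e₁ a b), ← hl1.2.1.eq]
                  noncomm_ring
            _ = w * (e₀ a b + (v + r • w) * S * (v + r • w)) * w := by
              rw [hlo, F.wt_ep_right hwt, F.wt_em_left hwt]; simp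
            _ = w * (e₀ a b * w) + (w * (v + r • w)) * S * ((v + r • w) * w) := by noncomm_ring
            _ = _ := by
              rw [F.wt_mid hwt, ← mul_assoc, ww, zero_mul, zero_add]
              simp only [mul_add, add_mul, mul_smul_comm, smul_mul_assoc, ww, zero_mul, smul_zero, add_zero, hP]
        rw [← hh, h1]
      have h5 := congrArg (fun s => (b * (v * w) * y) * s * (b * (v * w) * y)) h4
      simp only [mul_zero, zero_mul] at h5
      have hS0 : S = 0 := by
        rw [← h5]
        calc S = (-e₁ b a) * S * (-e₁ a b) := by rw [neg_mul, hSl, neg_mul_neg, hSr]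
          _ = _ := by rw [← hRP, ← hI]; simp only [mul_assoc]
      rw [hS0, mul_zero, eq_comm, neg_eq_zero] at hTS
      exact F.ha.ne (by rw [← F.a_left, hTS, zero_mul])
    have m0 := main 0
    have m1 := main 1
    have m2 := main (-1)
    rw [expand] at m0 m1 m2
    simp only [zero_smul, add_zero, one_smul, neg_one_smul] at m0 m1 m2
    have e5 : (hsq v + v * w) * b * (hsq v + v * w) + (hsq v + -(v * w)) * b * (hsq v + -(v * w)) =
        (hsq v * b * hsq v + hsq v * b * hsq v) + (v * w * b * (v * w) + v * w * b * (v * w)) := by noncomm_ring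
    rw [m0, m1, m2, add_zero, zero_add, eq_comm, ← two_smul k] at e5
    exact hne ((smul_eq_zero.1 e5).resolve_left F.two_ne)
  let s : Finset End' := (Finset.univ.filter (InU G a b)).image fun v => v * w * b
  have hs : ∀ f ∈ s, ∃ v, InU G a b v ∧ f = v * w * b := fun f hf => by
    obtain ⟨v, hv, rfl⟩ := Finset.mem_image.1 hf
    exact ⟨v, (Finset.mem_filter.1 hv).2, rfl⟩
  have hne : LinearMap.range a ≠ ⊥ := fun h => F.ha.ne (LinearMap.range_eq_bot.1 h)
  obtain ⟨m, hm, hm0, hall⟩ := common_kernel s (LinearMap.range a) hne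
    (fun f hf m hm => by
      obtain ⟨v, hv, rfl⟩ := hs f hf
      rw [← F.mul_left_corner hv.1 hwt, mul_assoc, Module.End.mul_apply]
      exact ⟨-(b ((v * w * b) m)), by simp [e₁]⟩)
    (fun f hf => by
      obtain ⟨v, hv, rfl⟩ := hs f hf
      rw [show v * w * b * (v * w * b) = v * w * b * (v * w) * b by simp only [mul_assoc], sqz v hv, zero_mul])
    (fun f hf g hg => by
      obtain ⟨v, hv, rfl⟩ := hs f hf
      obtain ⟨u, hu, rfl⟩ := hs g hg
      refine ⟨-1, ?_⟩
      have h := sqz _ (F.inU_add hv hu)
      have e : (v + u) * w * b * ((v + u) * w) =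
          v * w * b * (v * w) + u * w * b * (u * w) + (v * w * b * (u * w) + u * w * b * (v * w)) := by noncomm_ring
      rw [h, sqz v hv, sqz u hu, zero_add, zero_add, eq_comm] at e
      rw [neg_one_smul, eq_neg_iff_add_eq_zero,
        show v * w * b * (u * w * b) + u * w * b * (v * w * b) = (v * w * b * (u * w) + u * w * b * (v * w)) * b by
          noncomm_ring, e, zero_mul])
  -- injectivity
  have hxb : (w * b) m = 0 := by
    refine F.fixed_image_zero hw.1 (m := b m) fun g hg => ?_
    let W : Submodule k M := Submodule.span k {(w * b) m}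
    have h0 : ∀ v, InU G a b v → v ((w * b) m) = 0 := fun v hv => by
      have := hall _ (Finset.mem_image.2 ⟨v, Finset.mem_filter.2 ⟨Finset.mem_univ v, hv⟩, rfl⟩)
      rwa [mul_assoc] at this
    have hbm : (w * b) m = (e₀ a b) ((w * b) m) := by
      rw [← Module.End.mul_apply, ← mul_assoc, F.wt_mid hwt, mul_assoc, F.b_left]
    have fixg : ∀ g : GL', (g : End') ((w * b) m) = (w * b) m → g ∈ setStab W := fun g hgm =>
      setStab_of_le fun v hv => by
        obtain ⟨r, rfl⟩ := Submodule.mem_span_singleton.1 hv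
        rw [map_smul, hgm]; exact hv
    let H : Subgroup GL' := { carrier := {g | (g : End') ((w * b) m) = (w * b) m}
                              one_mem' := rfl
                              mul_mem' := fun {g h} hg hh => by
                                change (g : End') ((h : End') _) = _
                                rw [hh, hg]
                              inv_mem' := fun {g} hg => by
                                change ((g⁻¹ : GL') : End') _ = _
                                conv_lhs => rw [← hg]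
                                rw [← Module.End.mul_apply, ← Units.val_mul, inv_mul_cancel]; rfl }
    have hU : flagOf G a ≤ H := fun u hu => by
      obtain ⟨v, τ, hv, hτ, e⟩ := F.exists_decomp hu
      change (u : End') ((w * b) m) = (w * b) m
      rw [e, LinearMap.add_apply, LinearMap.add_apply, LinearMap.add_apply, Module.End.one_apply, h0 v hv,
        show hsq v ((w * b) m) = 0 by rw [hsq, LinearMap.smul_apply, Module.End.mul_apply v v, h0 v hv, map_zero, smul_zero],
        show τ ((w * b) m) = 0 by
          rw [hbm, ← F.rt_right hτ, ← Module.End.mul_apply, mul_assoc, F.mo, mul_zero]; rfl]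
      abel
    have hB : Rg G b ≤ H := fun x hx => by
      change (x : End') ((w * b) m) = (w * b) m
      rw [show (x : End') = 1 + ((x : End') - 1) from (add_sub_cancel _ _).symm, LinearMap.add_apply,
        Module.End.one_apply]
      have hz : ((x : End') - 1) * e₀ a b = 0 := by
        rw [← F.rb_right (mem_Rg.1 hx), mul_assoc, F.po, mul_zero]
      have hz' : ((x : End') - 1) ((w * b) m) = 0 := by rw [hbm, ← Module.End.mul_apply, hz]; rfl
      rw [hz', add_zero]
    exact F.gen_le hU hB hg
  let f : LinearMap.range a →ₗ[k] M := (w * b).domRestrict (LinearMap.range a)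
  have hker : LinearMap.ker f ≠ ⊥ := (Submodule.ne_bot_iff _).2 ⟨⟨m, hm⟩, hxb, fun h => hm0 (congrArg Subtype.val h)⟩
  have hrn := f.finrank_range_add_finrank_ker
  rw [F.ha.rank] at hrn
  have hle : LinearMap.range (w * b * w) ≤ LinearMap.range f := by
    rintro _ ⟨x, rfl⟩
    have e : w * b * w = w * b * (e₁ a b * w) := by rw [← mul_assoc (w * b), mul_assoc w b (e₁ a b), F.b_right]
    rw [e]
    exact ⟨⟨(e₁ a b * w) x, range_le_of_left (Y := -(b * w)) (by simp [e₁, mul_assoc]) ⟨x, rfl⟩⟩, rfl⟩
  have h1 := Submodule.finrank_mono hle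
  have h2 : 0 < Module.finrank k (LinearMap.ker f) := by
    rw [Nat.pos_iff_ne_zero]
    exact fun h => hker (Submodule.finrank_eq_zero.1 h)
  omega

end Frame

end Cfsg.Agent.RootParabolic
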